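import Cfsg.Agent.Lib.Golay.FrameElem
import Cfsg.Agent.Lib.Golay.SevenData

/-! Data for the centraliser of a permutation of type `1^3 7^3` in the automorphism group of the lattice:
orbits, a basis of the fixed sublattice with dual vectors, short representatives, automorphisms as rows. -/

set_option autoImplicit false

namespace CfsgLib.MonsterType.Held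

/-- Inverse of the permutation of order 7. -/
def sevInvL : List ℕ := [21,12,8,15,20,4,19,2,5,9,7,14,0,13,17,1,11,18,6,16,10,22,3,23]

/-- Orbit number of each position. -/
def clsL : List ℕ := [3,3,4,3,4,4,5,4,4,0,4,5,3,1,5,3,5,5,5,5,4,3,3,2]

/-- A representative of each orbit. -/
def repL : List ℕ := [9,13,23,0,2,6]

/-- Orbit values of a basis of the fixed sublattice. -/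
def basL : List (List ℤ) := [[-2,-14,-14,2,-2,2],[0,4,6,6,-4,0],[0,2,4,0,-4,2],[0,0,2,-6,0,0],[2,16,14,6,2,-8],[-1,-5,-1,-5,-5,-1]]

/-- Lattice vectors dual to the basis. -/
def dualL : List (List ℤ) := [[5,-5,-1,-3,1,3,1,-1,-3,-77,3,1,1,19,-1,5,-1,3,-1,-1,-1,3,-9,-9],[4,2,0,0,-2,2,2,2,0,14,-2,-2,-4,-8,0,-2,-2,2,2,-2,2,2,0,6],[4,-6,-2,-4,2,0,0,-2,0,-70,0,0,0,22,-2,6,2,2,0,0,0,-2,-2,-12],[8,-4,2,-6,2,0,0,0,-2,-104,2,2,-4,22,-2,8,0,2,-2,2,0,0,-6,-8],[0,-2,2,2,2,0,0,0,-2,-44,0,2,0,12,-2,0,4,-2,-2,0,-2,2,-4,-6],[-4,2,-2,2,0,2,0,2,0,58,0,2,0,-14,0,-8,-2,-2,0,0,-4,0,10,6]]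

/-- Sums of the dual vectors over the orbits. -/
def dualSumL : List (List ℤ) := [[-77,19,-9,-3,1,1],[14,-8,6,2,2,0],[-70,22,-12,-4,-2,2],[-104,22,-8,-4,4,2],[-44,12,-6,-2,0,0],[58,-14,6,2,-2,-2]]

/-- Coefficients of short representatives of the fixed classes. -/
def witL : List (List ℤ) :=
  [[0,0,0,0,0,0],[77,-14,70,104,44,-58],[32,-5,28,44,18,-24],[51,-13,50,66,30,-38],[38,-8,35,50,22,-28],[29,-2,23,42,16,-22],[14,-3,13,18,8,-10],[5,3,1,10,2,-4],[14,-2,12,19,8,-10],[3,-2,4,3,2,-2],[48,-11,46,63,28,-36],[29,-3,24,41,16,-22],[24,-6,23,31,14,-18],[15,0,11,23,8,-12],[0,-1,1,-1,0,0],[-9,5,-11,-9,-6,6],[22,-6,22,28,13,-16],[-5,2,-6,-6,-3,4],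[10,1,6,16,5,-8],[29,-7,28,38,17,-22],[34,-4,29,48,19,-26],[43,-10,41,56,25,-32],[-8,3,-9,-10,-5,6],[-11,5,-13,-12,-7,8],[58,-10,52,79,33,-44],[19,-4,18,25,11,-14],[34,-5,30,47,19,-26],[43,-9,40,57,25,-32],[40,-8,37,53,23,-30],[37,-6,33,51,21,-28],[-14,7,-17,-15,-9,10],[-5,1,-5,-7,-3,4],[52,-10,48,70,30,-39],[25,-4,22,34,14,-19],[10,-3,10,12,6,-7],[1,3,-2,4,0,-1],[4,0,3,6,2,-3],[23,-8,25,28,14,-17],[28,-5,25,38,16,-21],[49,-9,45,66,28,-37],[58,-14,56,75,34,-43],[19,0,14,29,10,-15],[4,1,2,7,2,-3],[13,-5,14,15,8,-9],[20,-6,21,25,12,-15],[1,2,-1,3,0,-1],[52,-11,49,69,30,-39],[25,-3,21,35,14,-19],[38,-4,32,54,21,-29],[39,-10,38,50,23,-29],[6,1,4,10,3,-5],[15,-5,16,18,9,-11],[18,-6,19,22,11,-13],[-1,2,-3,0,-1,1],[44,-7,39,60,25,-33],[33,-7,31,44,19,-25],[44,-8,40,59,25,-33],[33,-6,30,45,19,-25],[18,-7,20,21,11,-13],[9,-1,8,13,5,-7],[-4,4,-7,-3,-3,3],[15,-4,15,19,9,-11],[30,-5,27,41,17,-23],[47,-9,43,63,27,-35]]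

/-- Indices of the code words fixed by the permutation. -/
def fixK : List ℕ := [0,11,1972,1983,2112,2123,4084,4095]

/-- Monomial elements with different actions. -/
def monIdx : List (ℕ × ℕ) := [(0,0),(0,1),(0,2),(0,3),(1,0),(1,1),(1,2),(1,3),(14,0),(14,1),(14,2),(14,3),(15,0),(15,1),(15,2),(15,3),(28,0),(28,1),(28,2),(28,3),(29,0),(29,1),(29,2),(29,3)]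

/-- The products of the two families of matrices. -/
def prodL : List ℕ := [177,179,181,183,401,407,405,403,161,163,167,165,417,423,419,421,273,277,279,275,305,309,307,311,174,190,142,158,426,410,394,442,188,172,140,156,412,428,396,444,314,282,266,298,286,318,270,302,169,187,141,159,425,415,397,443,185,171,143,157,409,431,395,445,313,285,271,299,281,317,267,303,342,470,86,214,370,242,114,498,468,340,84,212,244,372,116,500,482,226,98,354,230,486,102,358,339,465,87,213,375,241,115,501,467,337,85,215,247,369,117,499,485,225,99,359,229,481,103,355,382,494,94,206,346,234,122,458,492,380,92,204,236,348,124,460,474,250,106,330,254,478,110,334,379,489,95,205,351,233,123,461,491,377,93,207,239,345,125,459,477,249,107,335,253,473,111,331]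

/-- Rows of the basic automorphism commuting with the permutation. -/
def baseU : List (List ℤ) := [[0,0,2,0,-2,-2,-2,-2,-2,-2,2,-2,0,-2,-2,0,-2,2,2,2,2,0,0,0],[0,0,-2,0,2,2,-2,-2,-2,-2,2,2,0,-2,2,0,-2,-2,2,-2,-2,0,0,0],[2,2,0,2,-4,0,0,0,0,0,0,0,-2,0,4,2,0,0,0,0,0,-2,-2,-2],[0,0,2,0,2,-2,-2,-2,2,-2,-2,-2,0,-2,2,0,2,-2,-2,2,-2,0,0,0],[2,-2,0,2,0,0,4,-4,0,0,0,0,2,0,0,-2,0,0,0,0,0,2,-2,-2],[2,2,0,-2,0,0,0,0,0,0,-4,0,2,0,0,-2,0,0,4,0,0,-2,2,-2],[2,2,0,-2,0,-4,0,0,0,0,0,4,-2,0,0,-2,0,0,0,0,0,2,-2,2],[-2,-2,0,2,0,-4,0,0,0,0,0,4,2,0,0,2,0,0,0,0,0,-2,2,-2],[-2,2,0,-2,0,0,0,0,0,0,0,0,2,0,0,2,0,4,0,0,-4,2,-2,-2],[2,2,0,2,0,0,0,0,0,-4,0,0,2,4,0,2,0,0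,0,0,0,2,2,2],[-2,2,0,2,0,0,0,0,-4,0,0,0,-2,0,0,-2,4,0,0,0,0,2,2,-2],[-2,-2,0,2,0,0,0,0,0,0,-4,0,-2,0,0,2,0,0,4,0,0,2,-2,2],[0,0,-2,0,2,-2,2,2,-2,-2,-2,-2,0,-2,2,0,-2,2,-2,-2,2,0,0,0],[-2,-2,0,-2,0,0,0,0,0,-4,0,0,-2,4,0,-2,0,0,0,0,0,-2,-2,-2],[-2,2,0,-2,0,0,4,-4,0,0,0,0,-2,0,0,2,0,0,0,0,0,-2,2,2],[0,0,-2,0,-2,2,-2,-2,2,-2,-2,2,0,-2,-2,0,2,2,-2,-2,2,0,0,0],[2,-2,0,2,0,0,0,0,0,0,0,0,-2,0,0,-2,0,4,0,0,-4,-2,2,2],[-2,2,-4,2,0,0,0,0,0,0,0,0,2,0,0,-2,0,0,0,4,0,-2,-2,2],[2,-2,0,-2,0,0,0,0,-4,0,0,0,2,0,0,2,4,0,0,0,0,-2,-2,2],[-2,-2,0,-2,-4,0,0,0,0,0,0,0,2,0,4,-2,0,0,0,0,0,2,2,2],[2,-2,-4,-2,0,0,0,0,0,0,0,0,-2,0,0,2,0,0,0,4,0,2,2,-2],[0,0,-2,0,-2,-2,2,2,2,-2,2,-2,0,-2,-2,0,2,-2,2,-2,-2,0,0,0],[0,0,2,0,-2,2,2,2,-2,-2,-2,2,0,-2,-2,0,-2,-2,-2,2,-2,0,0,0],[0,0,2,0,2,2,2,2,2,-2,2,2,0,-2,2,0,2,2,2,2,2,0,0,0]]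

/-- Rows of a basic automorphism inverting the permutation. -/
def baseW1 : List (List ℤ) := [[0,0,-2,0,-2,-2,0,-2,-2,-2,-2,0,0,0,0,0,0,0,0,0,6,0,0,0],[0,0,-2,0,-2,-2,0,6,-2,-2,-2,0,0,0,0,0,0,0,0,0,-2,0,0,0],[2,-2,0,2,0,0,-2,0,0,0,0,2,-2,-2,2,2,-2,2,-2,2,0,-2,2,-2],[0,0,-2,0,-2,-2,0,-2,6,-2,-2,0,0,0,0,0,0,0,0,0,-2,0,0,0],[2,-2,0,-2,0,0,2,0,0,0,0,-2,2,-2,-2,2,2,2,-2,2,0,2,-2,-2],[2,2,0,-2,0,0,-2,0,0,0,0,2,-2,-2,-2,-2,2,-2,2,2,0,2,2,-2],[2,-2,0,-2,0,0,-2,0,0,0,0,-2,2,-2,2,-2,2,2,2,-2,0,-2,2,2],[-2,2,0,2,0,0,-2,0,0,0,0,-2,-2,-2,2,2,2,2,2,-2,0,2,-2,-2],[-2,-2,0,2,0,0,2,0,0,0,0,2,2,-2,2,-2,2,-2,-2,-2,0,2,2,-2],[-2,-2,0,-2,0,0,-2,0,0,0,0,-2,-2,-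2,-2,-2,-2,-2,-2,-2,0,-2,-2,-2],[-2,2,0,-2,0,0,2,0,0,0,0,2,2,-2,-2,2,-2,2,2,-2,0,-2,2,-2],[-2,-2,0,2,0,0,-2,0,0,0,0,2,2,-2,-2,2,2,-2,2,2,0,-2,-2,2],[0,0,-2,0,-2,-2,0,-2,-2,-2,6,0,0,0,0,0,0,0,0,0,-2,0,0,0],[2,2,0,2,0,0,-2,0,0,0,0,-2,2,-2,-2,2,-2,-2,-2,-2,0,2,2,2],[-2,2,0,2,0,0,2,0,0,0,0,-2,-2,-2,-2,-2,2,2,-2,2,0,-2,2,2],[0,0,6,0,-2,-2,0,-2,-2,-2,-2,0,0,0,0,0,0,0,0,0,-2,0,0,0],[2,2,0,-2,0,0,2,0,0,0,0,2,-2,-2,2,2,2,-2,-2,-2,0,-2,-2,2],[-2,-2,0,-2,0,0,2,0,0,0,0,-2,-2,-2,2,2,-2,-2,2,2,0,2,2,2],[2,-2,0,2,0,0,2,0,0,0,0,2,-2,-2,-2,-2,-2,2,2,-2,0,2,-2,2],[-2,2,0,-2,0,0,-2,0,0,0,0,2,2,-2,2,-2,-2,2,-2,2,0,2,-2,2],[2,2,0,2,0,0,2,0,0,0,0,-2,2,-2,2,-2,-2,-2,2,2,0,-2,-2,-2],[0,0,-2,0,6,-2,0,-2,-2,-2,-2,0,0,0,0,0,0,0,0,0,-2,0,0,0],[0,0,-2,0,-2,6,0,-2,-2,-2,-2,0,0,0,0,0,0,0,0,0,-2,0,0,0],[0,0,-2,0,-2,-2,0,-2,-2,6,-2,0,0,0,0,0,0,0,0,0,-2,0,0,0]]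

/-- Rows of a second one. -/
def baseW2 : List (List ℤ) := [[3,3,-1,-1,-1,3,-1,-1,-1,-1,-1,3,-1,-1,-1,-1,-1,-1,-1,-1,-1,3,-1,-1],[3,-1,-1,3,-1,-1,-1,-1,-1,-1,-1,-1,-1,-1,-1,-1,-1,3,-1,-1,3,-1,3,-1],[-1,-1,3,-1,-1,-1,-1,-1,3,-1,3,3,-1,-1,-1,-1,-1,-1,-1,-1,-1,-1,3,-1],[-1,3,-1,-1,-1,-1,3,3,-1,-1,-1,-1,-1,-1,-1,3,-1,-1,-1,-1,-1,-1,3,-1],[-1,-1,-1,-1,-1,3,3,-1,-1,-1,3,-1,3,-1,-1,-1,-1,-1,-1,-1,3,-1,-1,-1],[3,-1,-1,-1,3,-1,-1,3,-1,-1,3,-1,-1,-1,-1,-1,-1,-1,-1,3,-1,-1,-1,-1],[-1,-1,-1,3,3,-1,3,-1,-1,-1,-1,3,-1,-1,-1,-1,3,-1,-1,-1,-1,-1,-1,-1],[-1,-1,-1,3,-1,3,-1,3,3,-1,-1,-1,-1,-1,3,-1,-1,-1,-1,-1,-1,-1,-1,-1],[-1,-1,3,-1,-1,-1,-1,3,-1,-1,-1,-1,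-1,-1,-1,-1,3,-1,-1,-1,3,3,-1,-1],[-1,-1,-1,-1,-1,-1,-1,-1,-1,-5,-1,-1,-1,3,-1,-1,-1,-1,-1,-1,-1,-1,-1,3],[-1,-1,3,-1,3,3,-1,-1,-1,-1,-1,-1,-1,-1,-1,3,-1,3,-1,-1,-1,-1,-1,-1],[3,-1,3,-1,-1,-1,3,-1,-1,-1,-1,-1,-1,-1,3,-1,-1,-1,3,-1,-1,-1,-1,-1],[-1,-1,-1,-1,3,-1,-1,-1,-1,-1,-1,-1,3,-1,3,-1,-1,-1,-1,-1,-1,3,3,-1],[-1,-1,-1,-1,-1,-1,-1,-1,-1,3,-1,-1,-1,-5,-1,-1,-1,-1,-1,-1,-1,-1,-1,3],[-1,-1,-1,-1,-1,-1,-1,3,-1,-1,-1,3,3,-1,-1,-1,-1,3,3,-1,-1,-1,-1,-1],[-1,-1,-1,3,-1,-1,-1,-1,-1,-1,3,-1,-1,-1,-1,3,-1,-1,3,-1,-1,3,-1,-1],[-1,-1,-1,-1,-1,-1,3,-1,3,-1,-1,-1,-1,-1,-1,-1,-1,3,-1,3,-1,3,-1,-1],[-1,3,-1,-1,-1,-1,-1,-1,-1,-1,3,-1,-1,-1,3,-1,3,3,-1,-1,-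1,-1,-1,-1],[-1,-1,-1,-1,-1,-1,-1,-1,-1,-1,-1,3,-1,-1,3,3,-1,-1,-1,3,3,-1,-1,-1],[-1,-1,-1,-1,-1,3,-1,-1,-1,-1,-1,-1,-1,-1,-1,-1,3,-1,3,3,-1,-1,3,-1],[-1,3,-1,-1,3,-1,-1,-1,3,-1,-1,-1,-1,-1,-1,-1,-1,-1,3,-1,3,-1,-1,-1],[3,-1,-1,-1,-1,-1,-1,-1,3,-1,-1,-1,3,-1,-1,3,3,-1,-1,-1,-1,-1,-1,-1],[-1,3,3,3,-1,-1,-1,-1,-1,-1,-1,-1,3,-1,-1,-1,-1,-1,-1,3,-1,-1,-1,-1],[-1,-1,-1,-1,-1,-1,-1,-1,-1,3,-1,-1,-1,3,-1,-1,-1,-1,-1,-1,-1,-1,-1,-5]]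

/-- Monomial elements carrying the basic automorphisms to those of the first family. -/
def selU : List (ℕ × ℕ × ℕ) := [(0,28,0),(1,28,0),(1,28,2),(1,14,0),(1,14,1),(1,0,0),(1,0,1)]

/-- The same for the second family. -/
def selW : List (ℕ × ℕ × ℕ) := [(1,28,0),(1,14,0),(1,0,0),(2,0,0),(2,0,1),(2,0,3),(2,0,2)]

/-- Automorphisms commuting with the permutation. -/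
def rowsU : List (List (List ℤ)) := [
[[8,0,0,0,0,0,0,0,0,0,0,0,0,0,0,0,0,0,0,0,0,0,0,0],[0,8,0,0,0,0,0,0,0,0,0,0,0,0,0,0,0,0,0,0,0,0,0,0],[0,0,8,0,0,0,0,0,0,0,0,0,0,0,0,0,0,0,0,0,0,0,0,0],[0,0,0,8,0,0,0,0,0,0,0,0,0,0,0,0,0,0,0,0,0,0,0,0],[0,0,0,0,8,0,0,0,0,0,0,0,0,0,0,0,0,0,0,0,0,0,0,0],[0,0,0,0,0,8,0,0,0,0,0,0,0,0,0,0,0,0,0,0,0,0,0,0],[0,0,0,0,0,0,8,0,0,0,0,0,0,0,0,0,0,0,0,0,0,0,0,0],[0,0,0,0,0,0,0,8,0,0,0,0,0,0,0,0,0,0,0,0,0,0,0,0],[0,0,0,0,0,0,0,0,8,0,0,0,0,0,0,0,0,0,0,0,0,0,0,0],[0,0,0,0,0,0,0,0,0,8,0,0,0,0,0,0,0,0,0,0,0,0,0,0],[0,0,0,0,0,0,0,0,0,0,8,0,0,0,0,0,0,0,0,0,0,0,0,0],[0,0,0,0,0,0,0,0,0,0,0,8,0,0,0,0,0,0,0,0,0,0,0,0],[0,0,0,0,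0,0,0,0,0,0,0,0,8,0,0,0,0,0,0,0,0,0,0,0],[0,0,0,0,0,0,0,0,0,0,0,0,0,8,0,0,0,0,0,0,0,0,0,0],[0,0,0,0,0,0,0,0,0,0,0,0,0,0,8,0,0,0,0,0,0,0,0,0],[0,0,0,0,0,0,0,0,0,0,0,0,0,0,0,8,0,0,0,0,0,0,0,0],[0,0,0,0,0,0,0,0,0,0,0,0,0,0,0,0,8,0,0,0,0,0,0,0],[0,0,0,0,0,0,0,0,0,0,0,0,0,0,0,0,0,8,0,0,0,0,0,0],[0,0,0,0,0,0,0,0,0,0,0,0,0,0,0,0,0,0,8,0,0,0,0,0],[0,0,0,0,0,0,0,0,0,0,0,0,0,0,0,0,0,0,0,8,0,0,0,0],[0,0,0,0,0,0,0,0,0,0,0,0,0,0,0,0,0,0,0,0,8,0,0,0],[0,0,0,0,0,0,0,0,0,0,0,0,0,0,0,0,0,0,0,0,0,8,0,0],[0,0,0,0,0,0,0,0,0,0,0,0,0,0,0,0,0,0,0,0,0,0,8,0],[0,0,0,0,0,0,0,0,0,0,0,0,0,0,0,0,0,0,0,0,0,0,0,8]],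
[[0,0,2,0,-2,-2,-2,-2,-2,-2,2,-2,0,-2,-2,0,-2,2,2,2,2,0,0,0],[0,0,-2,0,2,2,-2,-2,-2,-2,2,2,0,-2,2,0,-2,-2,2,-2,-2,0,0,0],[2,2,0,2,-4,0,0,0,0,0,0,0,-2,0,4,2,0,0,0,0,0,-2,-2,-2],[0,0,2,0,2,-2,-2,-2,2,-2,-2,-2,0,-2,2,0,2,-2,-2,2,-2,0,0,0],[2,-2,0,2,0,0,4,-4,0,0,0,0,2,0,0,-2,0,0,0,0,0,2,-2,-2],[2,2,0,-2,0,0,0,0,0,0,-4,0,2,0,0,-2,0,0,4,0,0,-2,2,-2],[2,2,0,-2,0,-4,0,0,0,0,0,4,-2,0,0,-2,0,0,0,0,0,2,-2,2],[-2,-2,0,2,0,-4,0,0,0,0,0,4,2,0,0,2,0,0,0,0,0,-2,2,-2],[-2,2,0,-2,0,0,0,0,0,0,0,0,2,0,0,2,0,4,0,0,-4,2,-2,-2],[2,2,0,2,0,0,0,0,0,-4,0,0,2,4,0,2,0,0,0,0,0,2,2,2],[-2,2,0,2,0,0,0,0,-4,0,0,0,-2,0,0,-2,4,0,0,0,0,2,2,-2],[-2,-2,0,2,0,0,0,0,0,0,-4,0,-2,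0,0,2,0,0,4,0,0,2,-2,2],[0,0,-2,0,2,-2,2,2,-2,-2,-2,-2,0,-2,2,0,-2,2,-2,-2,2,0,0,0],[-2,-2,0,-2,0,0,0,0,0,-4,0,0,-2,4,0,-2,0,0,0,0,0,-2,-2,-2],[-2,2,0,-2,0,0,4,-4,0,0,0,0,-2,0,0,2,0,0,0,0,0,-2,2,2],[0,0,-2,0,-2,2,-2,-2,2,-2,-2,2,0,-2,-2,0,2,2,-2,-2,2,0,0,0],[2,-2,0,2,0,0,0,0,0,0,0,0,-2,0,0,-2,0,4,0,0,-4,-2,2,2],[-2,2,-4,2,0,0,0,0,0,0,0,0,2,0,0,-2,0,0,0,4,0,-2,-2,2],[2,-2,0,-2,0,0,0,0,-4,0,0,0,2,0,0,2,4,0,0,0,0,-2,-2,2],[-2,-2,0,-2,-4,0,0,0,0,0,0,0,2,0,4,-2,0,0,0,0,0,2,2,2],[2,-2,-4,-2,0,0,0,0,0,0,0,0,-2,0,0,2,0,0,0,4,0,2,2,-2],[0,0,-2,0,-2,-2,2,2,2,-2,2,-2,0,-2,-2,0,2,-2,2,-2,-2,0,0,0],[0,0,2,0,-2,2,2,2,-2,-2,-2,2,0,-2,-2,0,-2,-2,-2,2,-2,0,0,0],[0,0,2,0,2,2,2,2,2,-2,2,2,0,-2,2,0,2,2,2,2,2,0,0,0]],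
[[0,0,2,0,-2,-2,-2,-2,-2,-2,2,-2,0,-2,-2,0,-2,2,2,2,2,0,0,0],[0,0,-2,0,2,2,-2,-2,-2,-2,2,2,0,-2,2,0,-2,-2,2,-2,-2,0,0,0],[-2,-2,0,-2,4,0,0,0,0,0,0,0,2,0,-4,-2,0,0,0,0,0,2,2,2],[0,0,2,0,2,-2,-2,-2,2,-2,-2,-2,0,-2,2,0,2,-2,-2,2,-2,0,0,0],[-2,2,0,-2,0,0,-4,4,0,0,0,0,-2,0,0,2,0,0,0,0,0,-2,2,2],[-2,-2,0,2,0,0,0,0,0,0,4,0,-2,0,0,2,0,0,-4,0,0,2,-2,2],[2,2,0,-2,0,-4,0,0,0,0,0,4,-2,0,0,-2,0,0,0,0,0,2,-2,2],[2,2,0,-2,0,4,0,0,0,0,0,-4,-2,0,0,-2,0,0,0,0,0,2,-2,2],[2,-2,0,2,0,0,0,0,0,0,0,0,-2,0,0,-2,0,-4,0,0,4,-2,2,2],[-2,-2,0,-2,0,0,0,0,0,4,0,0,-2,-4,0,-2,0,0,0,0,0,-2,-2,-2],[2,-2,0,-2,0,0,0,0,4,0,0,0,2,0,0,2,-4,0,0,0,0,-2,-2,2],[-2,-2,0,2,0,0,0,0,0,0,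-4,0,-2,0,0,2,0,0,4,0,0,2,-2,2],[0,0,-2,0,2,-2,2,2,-2,-2,-2,-2,0,-2,2,0,-2,2,-2,-2,2,0,0,0],[-2,-2,0,-2,0,0,0,0,0,-4,0,0,-2,4,0,-2,0,0,0,0,0,-2,-2,-2],[-2,2,0,-2,0,0,4,-4,0,0,0,0,-2,0,0,2,0,0,0,0,0,-2,2,2],[0,0,-2,0,-2,2,-2,-2,2,-2,-2,2,0,-2,-2,0,2,2,-2,-2,2,0,0,0],[2,-2,0,2,0,0,0,0,0,0,0,0,-2,0,0,-2,0,4,0,0,-4,-2,2,2],[-2,2,-4,2,0,0,0,0,0,0,0,0,2,0,0,-2,0,0,0,4,0,-2,-2,2],[2,-2,0,-2,0,0,0,0,-4,0,0,0,2,0,0,2,4,0,0,0,0,-2,-2,2],[-2,-2,0,-2,-4,0,0,0,0,0,0,0,2,0,4,-2,0,0,0,0,0,2,2,2],[-2,2,4,2,0,0,0,0,0,0,0,0,2,0,0,-2,0,0,0,-4,0,-2,-2,2],[0,0,-2,0,-2,-2,2,2,2,-2,2,-2,0,-2,-2,0,2,-2,2,-2,-2,0,0,0],[0,0,2,0,-2,2,2,2,-2,-2,-2,2,0,-2,-2,0,-2,-2,-2,2,-2,0,0,0],[0,0,2,0,2,2,2,2,2,-2,2,2,0,-2,2,0,2,2,2,2,2,0,0,0]],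
[[2,-2,0,2,0,0,0,0,0,0,0,0,-2,0,0,-2,0,4,0,0,-4,-2,2,2],[2,2,0,-2,0,-4,0,0,0,0,0,4,-2,0,0,-2,0,0,0,0,0,2,-2,2],[-2,2,0,-2,0,0,0,0,0,0,0,0,2,0,0,2,0,4,0,0,-4,2,-2,-2],[-2,2,-4,2,0,0,0,0,0,0,0,0,2,0,0,-2,0,0,0,4,0,-2,-2,2],[2,-2,-4,-2,0,0,0,0,0,0,0,0,-2,0,0,2,0,0,0,4,0,2,2,-2],[2,-2,0,2,0,0,4,-4,0,0,0,0,2,0,0,-2,0,0,0,0,0,2,-2,-2],[0,0,2,0,-2,-2,-2,-2,-2,-2,2,-2,0,-2,-2,0,-2,2,2,2,2,0,0,0],[2,2,0,2,-4,0,0,0,0,0,0,0,-2,0,4,2,0,0,0,0,0,-2,-2,-2],[2,2,0,-2,0,0,0,0,0,0,-4,0,2,0,0,-2,0,0,4,0,0,-2,2,-2],[2,2,0,2,0,0,0,0,0,-4,0,0,2,4,0,2,0,0,0,0,0,2,2,2],[-2,-2,0,2,0,-4,0,0,0,0,0,4,2,0,0,2,0,0,0,0,0,-2,2,-2],[0,0,2,0,2,-2,-2,-2,2,-2,-2,-2,0,-2,2,0,2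,-2,-2,2,-2,0,0,0],[-2,-2,0,-2,-4,0,0,0,0,0,0,0,2,0,4,-2,0,0,0,0,0,2,2,2],[0,0,2,0,2,2,2,2,2,-2,2,2,0,-2,2,0,2,2,2,2,2,0,0,0],[0,0,-2,0,-2,2,-2,-2,2,-2,-2,2,0,-2,-2,0,2,2,-2,-2,2,0,0,0],[2,-2,0,-2,0,0,0,0,-4,0,0,0,2,0,0,2,4,0,0,0,0,-2,-2,2],[0,0,2,0,-2,2,2,2,-2,-2,-2,2,0,-2,-2,0,-2,-2,-2,2,-2,0,0,0],[0,0,-2,0,2,2,-2,-2,-2,-2,2,2,0,-2,2,0,-2,-2,2,-2,-2,0,0,0],[0,0,-2,0,2,-2,2,2,-2,-2,-2,-2,0,-2,2,0,-2,2,-2,-2,2,0,0,0],[0,0,-2,0,-2,-2,2,2,2,-2,2,-2,0,-2,-2,0,2,-2,2,-2,-2,0,0,0],[-2,2,0,2,0,0,0,0,-4,0,0,0,-2,0,0,-2,4,0,0,0,0,2,2,-2],[-2,-2,0,2,0,0,0,0,0,0,-4,0,-2,0,0,2,0,0,4,0,0,2,-2,2],[-2,2,0,-2,0,0,4,-4,0,0,0,0,-2,0,0,2,0,0,0,0,0,-2,2,2],[-2,-2,0,-2,0,0,0,0,0,-4,0,0,-2,4,0,-2,0,0,0,0,0,-2,-2,-2]],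
[[-2,2,0,-2,0,0,0,0,0,0,0,0,2,0,0,2,0,-4,0,0,4,2,-2,-2],[-2,-2,0,2,0,4,0,0,0,0,0,-4,2,0,0,2,0,0,0,0,0,-2,2,-2],[-2,2,0,-2,0,0,0,0,0,0,0,0,2,0,0,2,0,4,0,0,-4,2,-2,-2],[2,-2,4,-2,0,0,0,0,0,0,0,0,-2,0,0,2,0,0,0,-4,0,2,2,-2],[2,-2,-4,-2,0,0,0,0,0,0,0,0,-2,0,0,2,0,0,0,4,0,2,2,-2],[2,-2,0,2,0,0,4,-4,0,0,0,0,2,0,0,-2,0,0,0,0,0,2,-2,-2],[0,0,2,0,-2,-2,-2,-2,-2,-2,2,-2,0,-2,-2,0,-2,2,2,2,2,0,0,0],[2,2,0,2,-4,0,0,0,0,0,0,0,-2,0,4,2,0,0,0,0,0,-2,-2,-2],[2,2,0,-2,0,0,0,0,0,0,-4,0,2,0,0,-2,0,0,4,0,0,-2,2,-2],[2,2,0,2,0,0,0,0,0,-4,0,0,2,4,0,2,0,0,0,0,0,2,2,2],[-2,-2,0,2,0,-4,0,0,0,0,0,4,2,0,0,2,0,0,0,0,0,-2,2,-2],[0,0,2,0,2,-2,-2,-2,2,-2,-2,-2,0,-2,2,0,2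,-2,-2,2,-2,0,0,0],[2,2,0,2,4,0,0,0,0,0,0,0,-2,0,-4,2,0,0,0,0,0,-2,-2,-2],[0,0,2,0,2,2,2,2,2,-2,2,2,0,-2,2,0,2,2,2,2,2,0,0,0],[0,0,-2,0,-2,2,-2,-2,2,-2,-2,2,0,-2,-2,0,2,2,-2,-2,2,0,0,0],[-2,2,0,2,0,0,0,0,4,0,0,0,-2,0,0,-2,-4,0,0,0,0,2,2,-2],[0,0,2,0,-2,2,2,2,-2,-2,-2,2,0,-2,-2,0,-2,-2,-2,2,-2,0,0,0],[0,0,-2,0,2,2,-2,-2,-2,-2,2,2,0,-2,2,0,-2,-2,2,-2,-2,0,0,0],[0,0,-2,0,2,-2,2,2,-2,-2,-2,-2,0,-2,2,0,-2,2,-2,-2,2,0,0,0],[0,0,-2,0,-2,-2,2,2,2,-2,2,-2,0,-2,-2,0,2,-2,2,-2,-2,0,0,0],[-2,2,0,2,0,0,0,0,-4,0,0,0,-2,0,0,-2,4,0,0,0,0,2,2,-2],[2,2,0,-2,0,0,0,0,0,0,4,0,2,0,0,-2,0,0,-4,0,0,-2,2,-2],[2,-2,0,2,0,0,-4,4,0,0,0,0,2,0,0,-2,0,0,0,0,0,2,-2,-2],[2,2,0,2,0,0,0,0,0,4,0,0,2,-4,0,2,0,0,0,0,0,2,2,2]],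
[[-2,-2,0,-2,-4,0,0,0,0,0,0,0,2,0,4,-2,0,0,0,0,0,2,2,2],[2,-2,0,-2,0,0,0,0,-4,0,0,0,2,0,0,2,4,0,0,0,0,-2,-2,2],[0,0,2,0,-2,-2,-2,-2,-2,-2,2,-2,0,-2,-2,0,-2,2,2,2,2,0,0,0],[-2,2,0,-2,0,0,4,-4,0,0,0,0,-2,0,0,2,0,0,0,0,0,-2,2,2],[0,0,2,0,2,-2,-2,-2,2,-2,-2,-2,0,-2,2,0,2,-2,-2,2,-2,0,0,0],[0,0,2,0,-2,2,2,2,-2,-2,-2,2,0,-2,-2,0,-2,-2,-2,2,-2,0,0,0],[-2,-2,0,2,0,-4,0,0,0,0,0,4,2,0,0,2,0,0,0,0,0,-2,2,-2],[0,0,-2,0,2,-2,2,2,-2,-2,-2,-2,0,-2,2,0,-2,2,-2,-2,2,0,0,0],[0,0,-2,0,-2,-2,2,2,2,-2,2,-2,0,-2,-2,0,2,-2,2,-2,-2,0,0,0],[0,0,2,0,2,2,2,2,2,-2,2,2,0,-2,2,0,2,2,2,2,2,0,0,0],[0,0,-2,0,2,2,-2,-2,-2,-2,2,2,0,-2,2,0,-2,-2,2,-2,-2,0,0,0],[2,2,0,-2,0,0,0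,0,0,0,-4,0,2,0,0,-2,0,0,4,0,0,-2,2,-2],[2,2,0,-2,0,-4,0,0,0,0,0,4,-2,0,0,-2,0,0,0,0,0,2,-2,2],[2,2,0,2,0,0,0,0,0,-4,0,0,2,4,0,2,0,0,0,0,0,2,2,2],[2,-2,0,2,0,0,4,-4,0,0,0,0,2,0,0,-2,0,0,0,0,0,2,-2,-2],[-2,2,-4,2,0,0,0,0,0,0,0,0,2,0,0,-2,0,0,0,4,0,-2,-2,2],[-2,2,0,-2,0,0,0,0,0,0,0,0,2,0,0,2,0,4,0,0,-4,2,-2,-2],[2,-2,-4,-2,0,0,0,0,0,0,0,0,-2,0,0,2,0,0,0,4,0,2,2,-2],[-2,2,0,2,0,0,0,0,-4,0,0,0,-2,0,0,-2,4,0,0,0,0,2,2,-2],[2,2,0,2,-4,0,0,0,0,0,0,0,-2,0,4,2,0,0,0,0,0,-2,-2,-2],[0,0,-2,0,-2,2,-2,-2,2,-2,-2,2,0,-2,-2,0,2,2,-2,-2,2,0,0,0],[2,-2,0,2,0,0,0,0,0,0,0,0,-2,0,0,-2,0,4,0,0,-4,-2,2,2],[-2,-2,0,2,0,0,0,0,0,0,-4,0,-2,0,0,2,0,0,4,0,0,2,-2,2],[-2,-2,0,-2,0,0,0,0,0,-4,0,0,-2,4,0,-2,0,0,0,0,0,-2,-2,-2]],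
[[2,2,0,2,4,0,0,0,0,0,0,0,-2,0,-4,2,0,0,0,0,0,-2,-2,-2],[-2,2,0,2,0,0,0,0,4,0,0,0,-2,0,0,-2,-4,0,0,0,0,2,2,-2],[0,0,2,0,-2,-2,-2,-2,-2,-2,2,-2,0,-2,-2,0,-2,2,2,2,2,0,0,0],[2,-2,0,2,0,0,-4,4,0,0,0,0,2,0,0,-2,0,0,0,0,0,2,-2,-2],[0,0,2,0,2,-2,-2,-2,2,-2,-2,-2,0,-2,2,0,2,-2,-2,2,-2,0,0,0],[0,0,2,0,-2,2,2,2,-2,-2,-2,2,0,-2,-2,0,-2,-2,-2,2,-2,0,0,0],[-2,-2,0,2,0,-4,0,0,0,0,0,4,2,0,0,2,0,0,0,0,0,-2,2,-2],[0,0,-2,0,2,-2,2,2,-2,-2,-2,-2,0,-2,2,0,-2,2,-2,-2,2,0,0,0],[0,0,-2,0,-2,-2,2,2,2,-2,2,-2,0,-2,-2,0,2,-2,2,-2,-2,0,0,0],[0,0,2,0,2,2,2,2,2,-2,2,2,0,-2,2,0,2,2,2,2,2,0,0,0],[0,0,-2,0,2,2,-2,-2,-2,-2,2,2,0,-2,2,0,-2,-2,2,-2,-2,0,0,0],[2,2,0,-2,0,0,0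,0,0,0,-4,0,2,0,0,-2,0,0,4,0,0,-2,2,-2],[-2,-2,0,2,0,4,0,0,0,0,0,-4,2,0,0,2,0,0,0,0,0,-2,2,-2],[2,2,0,2,0,0,0,0,0,-4,0,0,2,4,0,2,0,0,0,0,0,2,2,2],[2,-2,0,2,0,0,4,-4,0,0,0,0,2,0,0,-2,0,0,0,0,0,2,-2,-2],[2,-2,4,-2,0,0,0,0,0,0,0,0,-2,0,0,2,0,0,0,-4,0,2,2,-2],[-2,2,0,-2,0,0,0,0,0,0,0,0,2,0,0,2,0,4,0,0,-4,2,-2,-2],[2,-2,-4,-2,0,0,0,0,0,0,0,0,-2,0,0,2,0,0,0,4,0,2,2,-2],[-2,2,0,2,0,0,0,0,-4,0,0,0,-2,0,0,-2,4,0,0,0,0,2,2,-2],[2,2,0,2,-4,0,0,0,0,0,0,0,-2,0,4,2,0,0,0,0,0,-2,-2,-2],[0,0,-2,0,-2,2,-2,-2,2,-2,-2,2,0,-2,-2,0,2,2,-2,-2,2,0,0,0],[-2,2,0,-2,0,0,0,0,0,0,0,0,2,0,0,2,0,-4,0,0,4,2,-2,-2],[2,2,0,-2,0,0,0,0,0,0,4,0,2,0,0,-2,0,0,-4,0,0,-2,2,-2],[2,2,0,2,0,0,0,0,0,4,0,0,2,-4,0,2,0,0,0,0,0,2,2,2]]]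

/-- Automorphisms inverting the permutation. -/
def rowsW : List (List (List ℤ)) := [
[[0,0,-2,0,-2,-2,0,-2,-2,-2,-2,0,0,0,0,0,0,0,0,0,6,0,0,0],[0,0,-2,0,-2,-2,0,6,-2,-2,-2,0,0,0,0,0,0,0,0,0,-2,0,0,0],[2,-2,0,2,0,0,-2,0,0,0,0,2,-2,-2,2,2,-2,2,-2,2,0,-2,2,-2],[0,0,-2,0,-2,-2,0,-2,6,-2,-2,0,0,0,0,0,0,0,0,0,-2,0,0,0],[2,-2,0,-2,0,0,2,0,0,0,0,-2,2,-2,-2,2,2,2,-2,2,0,2,-2,-2],[2,2,0,-2,0,0,-2,0,0,0,0,2,-2,-2,-2,-2,2,-2,2,2,0,2,2,-2],[2,-2,0,-2,0,0,-2,0,0,0,0,-2,2,-2,2,-2,2,2,2,-2,0,-2,2,2],[-2,2,0,2,0,0,-2,0,0,0,0,-2,-2,-2,2,2,2,2,2,-2,0,2,-2,-2],[-2,-2,0,2,0,0,2,0,0,0,0,2,2,-2,2,-2,2,-2,-2,-2,0,2,2,-2],[-2,-2,0,-2,0,0,-2,0,0,0,0,-2,-2,-2,-2,-2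,-2,-2,-2,-2,0,-2,-2,-2],[-2,2,0,-2,0,0,2,0,0,0,0,2,2,-2,-2,2,-2,2,2,-2,0,-2,2,-2],[-2,-2,0,2,0,0,-2,0,0,0,0,2,2,-2,-2,2,2,-2,2,2,0,-2,-2,2],[0,0,-2,0,-2,-2,0,-2,-2,-2,6,0,0,0,0,0,0,0,0,0,-2,0,0,0],[2,2,0,2,0,0,-2,0,0,0,0,-2,2,-2,-2,2,-2,-2,-2,-2,0,2,2,2],[-2,2,0,2,0,0,2,0,0,0,0,-2,-2,-2,-2,-2,2,2,-2,2,0,-2,2,2],[0,0,6,0,-2,-2,0,-2,-2,-2,-2,0,0,0,0,0,0,0,0,0,-2,0,0,0],[2,2,0,-2,0,0,2,0,0,0,0,2,-2,-2,2,2,2,-2,-2,-2,0,-2,-2,2],[-2,-2,0,-2,0,0,2,0,0,0,0,-2,-2,-2,2,2,-2,-2,2,2,0,2,2,2],[2,-2,0,2,0,0,2,0,0,0,0,2,-2,-2,-2,-2,-2,2,2,-2,0,2,-2,2],[-2,2,0,-2,0,0,-2,0,0,0,0,2,2,-2,2,-2,-2,2,-2,2,0,2,-2,2],[2,2,0,2,0,0,2,0,0,0,0,-2,2,-2,2,-2,-2,-2,2,2,0,-2,-2,-2],[0,0,-2,0,6,-2,0,-2,-2,-2,-2,0,0,0,0,0,0,0,0,0,-2,0,0,0],[0,0,-2,0,-2,6,0,-2,-2,-2,-2,0,0,0,0,0,0,0,0,0,-2,0,0,0],[0,0,-2,0,-2,-2,0,-2,-2,6,-2,0,0,0,0,0,0,0,0,0,-2,0,0,0]],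
[[2,2,0,-2,0,0,2,0,0,0,0,2,-2,-2,2,2,2,-2,-2,-2,0,-2,-2,2],[2,-2,0,-2,0,0,-2,0,0,0,0,-2,2,-2,2,-2,2,2,2,-2,0,-2,2,2],[-2,-2,0,2,0,0,2,0,0,0,0,2,2,-2,2,-2,2,-2,-2,-2,0,2,2,-2],[-2,-2,0,-2,0,0,2,0,0,0,0,-2,-2,-2,2,2,-2,-2,2,2,0,2,2,2],[2,2,0,2,0,0,2,0,0,0,0,-2,2,-2,2,-2,-2,-2,2,2,0,-2,-2,-2],[2,-2,0,-2,0,0,2,0,0,0,0,-2,2,-2,-2,2,2,2,-2,2,0,2,-2,-2],[0,0,-2,0,-2,-2,0,-2,-2,-2,-2,0,0,0,0,0,0,0,0,0,6,0,0,0],[2,-2,0,2,0,0,-2,0,0,0,0,2,-2,-2,2,2,-2,2,-2,2,0,-2,2,-2],[2,2,0,-2,0,0,-2,0,0,0,0,2,-2,-2,-2,-2,2,-2,2,2,0,2,2,-2],[-2,-2,0,-2,0,0,-2,0,0,0,0,-2,-2,-2,-2,-2,-2,-2,-2,-2,0,-2,-2,-2],[-2,2,0,2,0,0,-2,0,0,0,0,-2,-2,-2,2,2,2,2,2,-2,0,2,-2,-2],[0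,0,-2,0,-2,-2,0,-2,6,-2,-2,0,0,0,0,0,0,0,0,0,-2,0,0,0],[-2,2,0,-2,0,0,-2,0,0,0,0,2,2,-2,2,-2,-2,2,-2,2,0,2,-2,2],[0,0,-2,0,-2,-2,0,-2,-2,6,-2,0,0,0,0,0,0,0,0,0,-2,0,0,0],[0,0,6,0,-2,-2,0,-2,-2,-2,-2,0,0,0,0,0,0,0,0,0,-2,0,0,0],[2,-2,0,2,0,0,2,0,0,0,0,2,-2,-2,-2,-2,-2,2,2,-2,0,2,-2,2],[0,0,-2,0,-2,6,0,-2,-2,-2,-2,0,0,0,0,0,0,0,0,0,-2,0,0,0],[0,0,-2,0,-2,-2,0,6,-2,-2,-2,0,0,0,0,0,0,0,0,0,-2,0,0,0],[0,0,-2,0,-2,-2,0,-2,-2,-2,6,0,0,0,0,0,0,0,0,0,-2,0,0,0],[0,0,-2,0,6,-2,0,-2,-2,-2,-2,0,0,0,0,0,0,0,0,0,-2,0,0,0],[-2,2,0,-2,0,0,2,0,0,0,0,2,2,-2,-2,2,-2,2,2,-2,0,-2,2,-2],[-2,-2,0,2,0,0,-2,0,0,0,0,2,2,-2,-2,2,2,-2,2,2,0,-2,-2,2],[-2,2,0,2,0,0,2,0,0,0,0,-2,-2,-2,-2,-2,2,2,-2,2,0,-2,2,2],[2,2,0,2,0,0,-2,0,0,0,0,-2,2,-2,-2,2,-2,-2,-2,-2,0,2,2,2]],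
[[-2,2,0,-2,0,0,-2,0,0,0,0,2,2,-2,2,-2,-2,2,-2,2,0,2,-2,2],[2,-2,0,2,0,0,2,0,0,0,0,2,-2,-2,-2,-2,-2,2,2,-2,0,2,-2,2],[0,0,-2,0,-2,-2,0,-2,-2,-2,-2,0,0,0,0,0,0,0,0,0,6,0,0,0],[-2,2,0,2,0,0,2,0,0,0,0,-2,-2,-2,-2,-2,2,2,-2,2,0,-2,2,2],[0,0,-2,0,-2,-2,0,-2,6,-2,-2,0,0,0,0,0,0,0,0,0,-2,0,0,0],[0,0,-2,0,-2,6,0,-2,-2,-2,-2,0,0,0,0,0,0,0,0,0,-2,0,0,0],[-2,2,0,2,0,0,-2,0,0,0,0,-2,-2,-2,2,2,2,2,2,-2,0,2,-2,-2],[0,0,-2,0,-2,-2,0,-2,-2,-2,6,0,0,0,0,0,0,0,0,0,-2,0,0,0],[0,0,-2,0,6,-2,0,-2,-2,-2,-2,0,0,0,0,0,0,0,0,0,-2,0,0,0],[0,0,-2,0,-2,-2,0,-2,-2,6,-2,0,0,0,0,0,0,0,0,0,-2,0,0,0],[0,0,-2,0,-2,-2,0,6,-2,-2,-2,0,0,0,0,0,0,0,0,0,-2,0,0,0],[2,2,0,-2,0,0,-2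,0,0,0,0,2,-2,-2,-2,-2,2,-2,2,2,0,2,2,-2],[2,-2,0,-2,0,0,-2,0,0,0,0,-2,2,-2,2,-2,2,2,2,-2,0,-2,2,2],[-2,-2,0,-2,0,0,-2,0,0,0,0,-2,-2,-2,-2,-2,-2,-2,-2,-2,0,-2,-2,-2],[2,-2,0,-2,0,0,2,0,0,0,0,-2,2,-2,-2,2,2,2,-2,2,0,2,-2,-2],[-2,-2,0,-2,0,0,2,0,0,0,0,-2,-2,-2,2,2,-2,-2,2,2,0,2,2,2],[-2,-2,0,2,0,0,2,0,0,0,0,2,2,-2,2,-2,2,-2,-2,-2,0,2,2,-2],[2,2,0,2,0,0,2,0,0,0,0,-2,2,-2,2,-2,-2,-2,2,2,0,-2,-2,-2],[-2,2,0,-2,0,0,2,0,0,0,0,2,2,-2,-2,2,-2,2,2,-2,0,-2,2,-2],[2,-2,0,2,0,0,-2,0,0,0,0,2,-2,-2,2,2,-2,2,-2,2,0,-2,2,-2],[0,0,6,0,-2,-2,0,-2,-2,-2,-2,0,0,0,0,0,0,0,0,0,-2,0,0,0],[2,2,0,-2,0,0,2,0,0,0,0,2,-2,-2,2,2,2,-2,-2,-2,0,-2,-2,2],[-2,-2,0,2,0,0,-2,0,0,0,0,2,2,-2,-2,2,2,-2,2,2,0,-2,-2,2],[2,2,0,2,0,0,-2,0,0,0,0,-2,2,-2,-2,2,-2,-2,-2,-2,0,2,2,2]],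
[[-1,-1,-1,-1,-1,3,-1,-1,-1,-1,-1,-1,-1,-1,-1,-1,3,-1,3,3,-1,-1,3,-1],[-1,-1,-1,-1,-1,-1,-1,-1,-1,-1,-1,3,-1,-1,3,3,-1,-1,-1,3,3,-1,-1,-1],[3,3,-1,-1,-1,3,-1,-1,-1,-1,-1,3,-1,-1,-1,-1,-1,-1,-1,-1,-1,3,-1,-1],[-1,-1,-1,-1,-1,-1,-1,3,-1,-1,-1,3,3,-1,-1,-1,-1,3,3,-1,-1,-1,-1,-1],[-1,3,-1,-1,-1,-1,3,3,-1,-1,-1,-1,-1,-1,-1,3,-1,-1,-1,-1,-1,-1,3,-1],[-1,3,3,3,-1,-1,-1,-1,-1,-1,-1,-1,3,-1,-1,-1,-1,-1,-1,3,-1,-1,-1,-1],[-1,-1,-1,3,-1,3,-1,3,3,-1,-1,-1,-1,-1,3,-1,-1,-1,-1,-1,-1,-1,-1,-1],[-1,-1,-1,-1,3,-1,-1,-1,-1,-1,-1,-1,3,-1,3,-1,-1,-1,-1,-1,-1,3,3,-1],[3,-1,-1,-1,-1,-1,-1,-1,3,-1,-1,-1,3,-1,-1,3,3,-1,-1,-1,-1,-1,-1,-1],[-1,-1,-1,-1,-1,-1,-1,-1,-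1,3,-1,-1,-1,3,-1,-1,-1,-1,-1,-1,-1,-1,-1,-5],[3,-1,-1,3,-1,-1,-1,-1,-1,-1,-1,-1,-1,-1,-1,-1,-1,3,-1,-1,3,-1,3,-1],[3,-1,-1,-1,3,-1,-1,3,-1,-1,3,-1,-1,-1,-1,-1,-1,-1,-1,3,-1,-1,-1,-1],[-1,-1,-1,3,3,-1,3,-1,-1,-1,-1,3,-1,-1,-1,-1,3,-1,-1,-1,-1,-1,-1,-1],[-1,-1,-1,-1,-1,-1,-1,-1,-1,-5,-1,-1,-1,3,-1,-1,-1,-1,-1,-1,-1,-1,-1,3],[-1,-1,-1,-1,-1,3,3,-1,-1,-1,3,-1,3,-1,-1,-1,-1,-1,-1,-1,3,-1,-1,-1],[-1,3,-1,-1,-1,-1,-1,-1,-1,-1,3,-1,-1,-1,3,-1,3,3,-1,-1,-1,-1,-1,-1],[-1,-1,3,-1,-1,-1,-1,3,-1,-1,-1,-1,-1,-1,-1,-1,3,-1,-1,-1,3,3,-1,-1],[-1,3,-1,-1,3,-1,-1,-1,3,-1,-1,-1,-1,-1,-1,-1,-1,-1,3,-1,3,-1,-1,-1],[-1,-1,3,-1,3,3,-1,-1,-1,-1,-1,-1,-1,-1,-1,3,-1,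3,-1,-1,-1,-1,-1,-1],[-1,-1,3,-1,-1,-1,-1,-1,3,-1,3,3,-1,-1,-1,-1,-1,-1,-1,-1,-1,-1,3,-1],[-1,-1,-1,3,-1,-1,-1,-1,-1,-1,3,-1,-1,-1,-1,3,-1,-1,3,-1,-1,3,-1,-1],[-1,-1,-1,-1,-1,-1,3,-1,3,-1,-1,-1,-1,-1,-1,-1,-1,3,-1,3,-1,3,-1,-1],[3,-1,3,-1,-1,-1,3,-1,-1,-1,-1,-1,-1,-1,3,-1,-1,-1,3,-1,-1,-1,-1,-1],[-1,-1,-1,-1,-1,-1,-1,-1,-1,3,-1,-1,-1,-5,-1,-1,-1,-1,-1,-1,-1,-1,-1,3]],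
[[1,1,1,1,1,-3,1,1,1,1,1,1,1,1,1,1,-3,1,-3,-3,1,1,-3,1],[1,1,1,1,1,1,1,1,1,1,1,-3,1,1,-3,-3,1,1,1,-3,-3,1,1,1],[3,3,-1,-1,-1,3,-1,-1,-1,-1,-1,3,-1,-1,-1,-1,-1,-1,-1,-1,-1,3,-1,-1],[1,1,1,1,1,1,1,-3,1,1,1,-3,-3,1,1,1,1,-3,-3,1,1,1,1,1],[-1,3,-1,-1,-1,-1,3,3,-1,-1,-1,-1,-1,-1,-1,3,-1,-1,-1,-1,-1,-1,3,-1],[-1,3,3,3,-1,-1,-1,-1,-1,-1,-1,-1,3,-1,-1,-1,-1,-1,-1,3,-1,-1,-1,-1],[-1,-1,-1,3,-1,3,-1,3,3,-1,-1,-1,-1,-1,3,-1,-1,-1,-1,-1,-1,-1,-1,-1],[-1,-1,-1,-1,3,-1,-1,-1,-1,-1,-1,-1,3,-1,3,-1,-1,-1,-1,-1,-1,3,3,-1],[3,-1,-1,-1,-1,-1,-1,-1,3,-1,-1,-1,3,-1,-1,3,3,-1,-1,-1,-1,-1,-1,-1],[-1,-1,-1,-1,-1,-1,-1,-1,-1,3,-1,-1,-1,3,-1,-1,-1,-1,-1,-1,-1,-1,-1,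-5],[3,-1,-1,3,-1,-1,-1,-1,-1,-1,-1,-1,-1,-1,-1,-1,-1,3,-1,-1,3,-1,3,-1],[3,-1,-1,-1,3,-1,-1,3,-1,-1,3,-1,-1,-1,-1,-1,-1,-1,-1,3,-1,-1,-1,-1],[1,1,1,-3,-3,1,-3,1,1,1,1,-3,1,1,1,1,-3,1,1,1,1,1,1,1],[-1,-1,-1,-1,-1,-1,-1,-1,-1,-5,-1,-1,-1,3,-1,-1,-1,-1,-1,-1,-1,-1,-1,3],[-1,-1,-1,-1,-1,3,3,-1,-1,-1,3,-1,3,-1,-1,-1,-1,-1,-1,-1,3,-1,-1,-1],[1,-3,1,1,1,1,1,1,1,1,-3,1,1,1,-3,1,-3,-3,1,1,1,1,1,1],[-1,-1,3,-1,-1,-1,-1,3,-1,-1,-1,-1,-1,-1,-1,-1,3,-1,-1,-1,3,3,-1,-1],[-1,3,-1,-1,3,-1,-1,-1,3,-1,-1,-1,-1,-1,-1,-1,-1,-1,3,-1,3,-1,-1,-1],[-1,-1,3,-1,3,3,-1,-1,-1,-1,-1,-1,-1,-1,-1,3,-1,3,-1,-1,-1,-1,-1,-1],[-1,-1,3,-1,-1,-1,-1,-1,3,-1,3,3,-1,-1,-1,-1,-1,-1,-1,-1,-1,-1,3,-1],[-1,-1,-1,3,-1,-1,-1,-1,-1,-1,3,-1,-1,-1,-1,3,-1,-1,3,-1,-1,3,-1,-1],[1,1,1,1,1,1,-3,1,-3,1,1,1,1,1,1,1,1,-3,1,-3,1,-3,1,1],[-3,1,-3,1,1,1,-3,1,1,1,1,1,1,1,-3,1,1,1,-3,1,1,1,1,1],[1,1,1,1,1,1,1,1,1,-3,1,1,1,5,1,1,1,1,1,1,1,1,1,-3]],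
[[1,1,1,1,1,-3,1,1,1,1,1,1,1,1,1,1,-3,1,-3,-3,1,1,-3,1],[1,1,1,1,1,1,1,1,1,1,1,-3,1,1,-3,-3,1,1,1,-3,-3,1,1,1],[-3,-3,1,1,1,-3,1,1,1,1,1,-3,1,1,1,1,1,1,1,1,1,-3,1,1],[1,1,1,1,1,1,1,-3,1,1,1,-3,-3,1,1,1,1,-3,-3,1,1,1,1,1],[1,-3,1,1,1,1,-3,-3,1,1,1,1,1,1,1,-3,1,1,1,1,1,1,-3,1],[1,-3,-3,-3,1,1,1,1,1,1,1,1,-3,1,1,1,1,1,1,-3,1,1,1,1],[-1,-1,-1,3,-1,3,-1,3,3,-1,-1,-1,-1,-1,3,-1,-1,-1,-1,-1,-1,-1,-1,-1],[1,1,1,1,-3,1,1,1,1,1,1,1,-3,1,-3,1,1,1,1,1,1,-3,-3,1],[-3,1,1,1,1,1,1,1,-3,1,1,1,-3,1,1,-3,-3,1,1,1,1,1,1,1],[1,1,1,1,1,1,1,1,1,-3,1,1,1,-3,1,1,1,1,1,1,1,1,1,5],[-3,1,1,-3,1,1,1,1,1,1,1,1,1,1,1,1,1,-3,1,1,-3,1,-3,1],[3,-1,-1,-1,3,-1,-1,3,-1,-1,3,-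1,-1,-1,-1,-1,-1,-1,-1,3,-1,-1,-1,-1],[1,1,1,-3,-3,1,-3,1,1,1,1,-3,1,1,1,1,-3,1,1,1,1,1,1,1],[-1,-1,-1,-1,-1,-1,-1,-1,-1,-5,-1,-1,-1,3,-1,-1,-1,-1,-1,-1,-1,-1,-1,3],[-1,-1,-1,-1,-1,3,3,-1,-1,-1,3,-1,3,-1,-1,-1,-1,-1,-1,-1,3,-1,-1,-1],[1,-3,1,1,1,1,1,1,1,1,-3,1,1,1,-3,1,-3,-3,1,1,1,1,1,1],[-1,-1,3,-1,-1,-1,-1,3,-1,-1,-1,-1,-1,-1,-1,-1,3,-1,-1,-1,3,3,-1,-1],[-1,3,-1,-1,3,-1,-1,-1,3,-1,-1,-1,-1,-1,-1,-1,-1,-1,3,-1,3,-1,-1,-1],[-1,-1,3,-1,3,3,-1,-1,-1,-1,-1,-1,-1,-1,-1,3,-1,3,-1,-1,-1,-1,-1,-1],[-1,-1,3,-1,-1,-1,-1,-1,3,-1,3,3,-1,-1,-1,-1,-1,-1,-1,-1,-1,-1,3,-1],[1,1,1,-3,1,1,1,1,1,1,-3,1,1,1,1,-3,1,1,-3,1,1,-3,1,1],[1,1,1,1,1,1,-3,1,-3,1,1,1,1,1,1,1,1,-3,1,-3,1,-3,1,1],[-3,1,-3,1,1,1,-3,1,1,1,1,1,1,1,-3,1,1,1,-3,1,1,1,1,1],[1,1,1,1,1,1,1,1,1,-3,1,1,1,5,1,1,1,1,1,1,1,1,1,-3]],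
[[-1,-1,-1,-1,-1,3,-1,-1,-1,-1,-1,-1,-1,-1,-1,-1,3,-1,3,3,-1,-1,3,-1],[-1,-1,-1,-1,-1,-1,-1,-1,-1,-1,-1,3,-1,-1,3,3,-1,-1,-1,3,3,-1,-1,-1],[-3,-3,1,1,1,-3,1,1,1,1,1,-3,1,1,1,1,1,1,1,1,1,-3,1,1],[-1,-1,-1,-1,-1,-1,-1,3,-1,-1,-1,3,3,-1,-1,-1,-1,3,3,-1,-1,-1,-1,-1],[1,-3,1,1,1,1,-3,-3,1,1,1,1,1,1,1,-3,1,1,1,1,1,1,-3,1],[1,-3,-3,-3,1,1,1,1,1,1,1,1,-3,1,1,1,1,1,1,-3,1,1,1,1],[-1,-1,-1,3,-1,3,-1,3,3,-1,-1,-1,-1,-1,3,-1,-1,-1,-1,-1,-1,-1,-1,-1],[1,1,1,1,-3,1,1,1,1,1,1,1,-3,1,-3,1,1,1,1,1,1,-3,-3,1],[-3,1,1,1,1,1,1,1,-3,1,1,1,-3,1,1,-3,-3,1,1,1,1,1,1,1],[1,1,1,1,1,1,1,1,1,-3,1,1,1,-3,1,1,1,1,1,1,1,1,1,5],[-3,1,1,-3,1,1,1,1,1,1,1,1,1,1,1,1,1,-3,1,1,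-3,1,-3,1],[3,-1,-1,-1,3,-1,-1,3,-1,-1,3,-1,-1,-1,-1,-1,-1,-1,-1,3,-1,-1,-1,-1],[-1,-1,-1,3,3,-1,3,-1,-1,-1,-1,3,-1,-1,-1,-1,3,-1,-1,-1,-1,-1,-1,-1],[-1,-1,-1,-1,-1,-1,-1,-1,-1,-5,-1,-1,-1,3,-1,-1,-1,-1,-1,-1,-1,-1,-1,3],[-1,-1,-1,-1,-1,3,3,-1,-1,-1,3,-1,3,-1,-1,-1,-1,-1,-1,-1,3,-1,-1,-1],[-1,3,-1,-1,-1,-1,-1,-1,-1,-1,3,-1,-1,-1,3,-1,3,3,-1,-1,-1,-1,-1,-1],[-1,-1,3,-1,-1,-1,-1,3,-1,-1,-1,-1,-1,-1,-1,-1,3,-1,-1,-1,3,3,-1,-1],[-1,3,-1,-1,3,-1,-1,-1,3,-1,-1,-1,-1,-1,-1,-1,-1,-1,3,-1,3,-1,-1,-1],[-1,-1,3,-1,3,3,-1,-1,-1,-1,-1,-1,-1,-1,-1,3,-1,3,-1,-1,-1,-1,-1,-1],[-1,-1,3,-1,-1,-1,-1,-1,3,-1,3,3,-1,-1,-1,-1,-1,-1,-1,-1,-1,-1,3,-1],[1,1,1,-3,1,1,1,1,1,1,-3,1,1,1,1,-3,1,1,-3,1,1,-3,1,1],[-1,-1,-1,-1,-1,-1,3,-1,3,-1,-1,-1,-1,-1,-1,-1,-1,3,-1,3,-1,3,-1,-1],[3,-1,3,-1,-1,-1,3,-1,-1,-1,-1,-1,-1,-1,3,-1,-1,-1,3,-1,-1,-1,-1,-1],[-1,-1,-1,-1,-1,-1,-1,-1,-1,3,-1,-1,-1,-5,-1,-1,-1,-1,-1,-1,-1,-1,-1,3]]]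

end CfsgLib.MonsterType.Held
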