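import Cfsg.Agent.Lib.MonsterType.Main
import Cfsg.Agent.Lib.MonsterType.Held.Data

/-! Classes of the lattice modulo two fixed by a permutation of order 7: coordinates and norms. -/

set_option autoImplicit false
set_option maxRecDepth 20000

namespace CfsgLib.MonsterType.Held

open Cfsg CfsgLib.Golay CfsgLib.LeechEight

/-- The permutation of order 7 on the points. -/
def sevP : Equiv.Perm GolayPt where
  toFun p := pt ⟨Seven.sevenL.getD (idx p).val 0 % 24, Nat.mod_lt _ (by norm_num)⟩
  invFun p := pt ⟨sevInvL.getD (idx p).val 0 % 24, Nat.mod_lt _ (by norm_num)⟩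
  left_inv := by unfold Function.LeftInverse; decide +kernel
  right_inv := by unfold Function.RightInverse Function.LeftInverse; decide +kernel

theorem toList_sevP : toList sevP = Seven.sevenL := by decide +kernel

theorem sevP_mem : sevP ∈ M24 := by
  obtain ⟨σ, hσ, h⟩ := exists_perm Seven.sevenL_facts.1
  rwa [toList_injective (toList_sevP.trans h.symm)]

/-- The permutation as an element of the group. -/
def sev : M24 := ⟨sevP, sevP_mem⟩

/-- The automorphism permuting the coordinates. -/
def sevW : Co0 := permW sev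

theorem sevP_pow_seven : sevP ^ 7 = 1 :=
  toList_injective (by rw [Seven.toList_pow, toList_sevP, toList_one, Seven.sevenL_facts.2.1])

theorem sev_pow_seven : sev ^ 7 = 1 := Subtype.ext sevP_pow_seven

theorem sevW_pow_seven : sevW ^ 7 = 1 := by
  show permHom sev ^ 7 = 1
  rw [← map_pow, sev_pow_seven, map_one]

theorem sevW_apply (v : leechLattice) (i : GolayPt) :
    ((sevW • v : leechLattice) : GolayPt → ℤ) i = (v : GolayPt → ℤ) (sevP.symm i) := rfl

theorem sevW_inv_apply (v : leechLattice) (i : GolayPt) :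
    ((sevW⁻¹ • v : leechLattice) : GolayPt → ℤ) i = (v : GolayPt → ℤ) (sevP i) := rfl

/-! ### Orbits -/

/-- The orbit of a point. -/
def cls (p : GolayPt) : Fin 6 := ⟨clsL.getD (idx p).val 0 % 6, Nat.mod_lt _ (by norm_num)⟩

/-- A representative of an orbit. -/
def rep (j : Fin 6) : GolayPt := pt ⟨repL.getD j.val 0 % 24, Nat.mod_lt _ (by norm_num)⟩

theorem cls_cover : ∀ p : GolayPt, ∃ t : Fin 7, (sevP ^ t.val) (rep (cls p)) = p := by decide +kernel

theorem fixed_const {v : leechLattice} (h : sevW • v = v) (p : GolayPt) :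
    (v : GolayPt → ℤ) p = (v : GolayPt → ℤ) (rep (cls p)) := by
  obtain ⟨t, ht⟩ := cls_cover p
  have key : ∀ n : ℕ, (v : GolayPt → ℤ) ((sevP ^ n) (rep (cls p))) = (v : GolayPt → ℤ) (rep (cls p)) := by
    intro n
    induction n with
    | zero => simp
    | succ n ih =>
      rw [pow_succ']
      have h1 := congrArg (fun w : leechLattice => (w : GolayPt → ℤ) (sevP ((sevP ^ n) (rep (cls p))))) h
      simp only [sevW_apply, Equiv.symm_apply_apply] at h1
      rw [Equiv.Perm.mul_apply, ← h1, ih]
  calc (v : GolayPt → ℤ) p = (v : GolayPt → ℤ) ((sevP ^ t.val) (rep (cls p))) := by rw [ht]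
    _ = _ := key t.val

/-! ### The basis and the dual vectors -/

/-- Orbit values of the `k`-th basis vector. -/
def basE (k l : Fin 6) : ℤ := (basL.getD k.val []).getD l.val 0

/-- The `k`-th basis vector. -/
def basV (k : Fin 6) : GolayPt → ℤ := fun p => basE k (cls p)

theorem basV_mem (k : Fin 6) : basV k ∈ leechLattice := by
  refine mem_of_leechTest ?_
  revert k
  decide +kernel

/-- The `k`-th basis vector in the lattice. -/
def bas (k : Fin 6) : leechLattice := ⟨basV k, basV_mem k⟩

/-- The `k`-th dual vector. -/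
def dual (k : Fin 6) : GolayPt → ℤ := rowVec (dualL.getD k.val [])

theorem dual_mem (k : Fin 6) : dual k ∈ leechLattice := by
  refine mem_of_leechTest ?_
  revert k
  decide +kernel

theorem dot_bas_dual : ∀ j k : Fin 6, dotInt (basV j) (dual k) = if j = k then 8 else 0 := by decide +kernel

/-- Sums of a dual vector over an orbit. -/
def dualSum (j k : Fin 6) : ℤ := ∑ p ∈ Finset.univ.filter (fun p => cls p = j), dual k p

theorem dualSum_bas : ∀ j l : Fin 6, (∑ k, dualSum j k * basE k l) = if j = l then 8 else 0 := by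
  decide +kernel

theorem sev_bas (k : Fin 6) : sevW • bas k = bas k := by
  apply Subtype.ext
  funext p
  rw [sevW_apply]
  have h : ∀ q : GolayPt, cls (sevP.symm q) = cls q := by decide +kernel
  show basV k (sevP.symm p) = basV k p
  simp only [basV, h]

/-- The coefficient at the `k`-th basis vector. -/
def coef (v : leechLattice) (k : Fin 6) : ℤ := dotInt (v : GolayPt → ℤ) (dual k) / 8

theorem eight_coef (v : leechLattice) (k : Fin 6) : 8 * coef v k = dotInt (v : GolayPt → ℤ) (dual k) :=
  Int.mul_ediv_cancel' (eight_dvd_dot v.2 (dual_mem k))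

theorem coef_add (v w : leechLattice) (k : Fin 6) : coef (v + w) k = coef v k + coef w k := by
  have h1 := eight_coef (v + w) k
  rw [AddSubgroup.coe_add, dotInt_add_left, ← eight_coef v k, ← eight_coef w k] at h1
  omega

/-- Coordinates modulo two. -/
def kap : leechLattice →+ (Fin 6 → ZMod 2) where
  toFun v k := (coef v k : ZMod 2)
  map_zero' := by
    funext k
    simp [coef, dotInt]
  map_add' v w := by
    funext k
    simp [coef_add]

theorem kap_apply (v : leechLattice) (k : Fin 6) : kap v k = (coef v k : ZMod 2) := rfl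

theorem kap_bas : ∀ j : Fin 6, kap (bas j) = fun k => if j = k then 1 else 0 := by decide +kernel

theorem kap_cong {v w : leechLattice} (h : Cong v w) : kap v = kap w := by
  obtain ⟨u, rfl⟩ := h
  funext k
  simp [CharTwo.add_self_eq_zero]

/-- An integral combination of the basis. -/
def comb (n : Fin 6 → ℤ) : leechLattice := ∑ k, n k • bas k

theorem comb_apply (n : Fin 6 → ℤ) (p : GolayPt) :
    (comb n : GolayPt → ℤ) p = ∑ k, n k * basE k (cls p) := by
  simp [comb, Finset.sum_apply, bas, basV]

theorem sev_comb (n : Fin 6 → ℤ) : sevW • comb n = comb n := by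
  show addHom sevW (∑ k, n k • bas k) = _
  rw [map_sum]
  refine Finset.sum_congr rfl fun k _ => ?_
  rw [map_zsmul]
  exact congrArg (n k • ·) (sev_bas k)

theorem kap_comb (n : Fin 6 → ℤ) : kap (comb n) = fun k => (n k : ZMod 2) := by
  funext k
  simp [comb, kap_bas, zsmul_eq_mul]

/-- A fixed vector is the combination given by its coefficients. -/
theorem eq_comb_of_fixed {v : leechLattice} (h : sevW • v = v) : v = comb (coef v) := by
  apply Subtype.ext
  funext p
  rw [comb_apply, fixed_const h p]
  set a : Fin 6 → ℤ := fun j => (v : GolayPt → ℤ) (rep j) with ha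
  have hd : ∀ k, 8 * coef v k = ∑ j, a j * dualSum j k := by
    intro k
    rw [eight_coef, dotInt, ← Finset.sum_fiberwise (s := Finset.univ) (g := cls)]
    refine Finset.sum_congr rfl fun j _ => ?_
    rw [dualSum, Finset.mul_sum]
    refine Finset.sum_congr rfl fun q hq => ?_
    rw [Finset.mem_filter] at hq
    rw [fixed_const h q, hq.2]
  have key : 8 * ∑ k, coef v k * basE k (cls p) = 8 * a (cls p) := by
    calc 8 * ∑ k, coef v k * basE k (cls p) = ∑ k, ∑ j, a j * (dualSum j k * basE k (cls p)) := by
          rw [Finset.mul_sum]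
          refine Finset.sum_congr rfl fun k _ => ?_
          rw [← mul_assoc, hd, Finset.sum_mul]
          simp only [mul_assoc]
      _ = ∑ j, a j * ∑ k, dualSum j k * basE k (cls p) := by
          rw [Finset.sum_comm]
          simp only [Finset.mul_sum]
      _ = 8 * a (cls p) := by simp only [dualSum_bas, mul_ite, mul_zero, Finset.sum_ite_eq', Finset.mem_univ, if_true]; ring
  exact (Int.eq_of_mul_eq_mul_left (by norm_num) key).symm

/-! ### Fixed classes -/

theorem cong_add {a b c d : leechLattice} (h : Cong a b) (h' : Cong c d) : Cong (a + c) (b + d) := by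
  obtain ⟨u, rfl⟩ := h
  obtain ⟨u', rfl⟩ := h'
  exact ⟨u + u', by abel⟩

/-- A fixed class. -/
def Fixed (v : leechLattice) : Prop := Cong (sevW • v) v

theorem fixed_pow {v : leechLattice} (h : Fixed v) : ∀ n : ℕ, Cong (sevW ^ n • v) v
  | 0 => by rw [pow_zero, one_smul]; exact Cong.refl' _
  | n + 1 => by
    rw [pow_succ', mul_smul]
    exact ((fixed_pow h n).smul' sevW).trans' h

theorem exists_fixed_rep {v : leechLattice} (h : Fixed v) : ∃ S : leechLattice, sevW • S = S ∧ Cong v S := by
  set s : ℕ → leechLattice := fun n => sevW ^ n • v with hs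
  refine ⟨s 0 + s 1 + s 2 + s 3 + s 4 + s 5 + s 6, ?_, ?_⟩
  · have hstep : ∀ n, sevW • s n = s (n + 1) := fun n => by simp only [hs, pow_succ', mul_smul]
    have h7 : s 7 = s 0 := by simp only [hs, sevW_pow_seven, pow_zero]
    simp only [smul_add', hstep]
    show s 1 + s 2 + s 3 + s 4 + s 5 + s 6 + s 7 = _
    rw [h7]
    abel
  · have hsum : Cong (s 0 + s 1 + s 2 + s 3 + s 4 + s 5 + s 6) (v + v + v + v + v + v + v) :=
      cong_add (cong_add (cong_add (cong_add (cong_add (cong_add (fixed_pow h 0) (fixed_pow h 1))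
        (fixed_pow h 2)) (fixed_pow h 3)) (fixed_pow h 4)) (fixed_pow h 5)) (fixed_pow h 6)
    exact (hsum.trans' ⟨v + v + v, by abel⟩).symm'

theorem comb_cong {n m : Fin 6 → ℤ} (h : ∀ k, (n k : ZMod 2) = (m k : ZMod 2)) : Cong (comb n) (comb m) := by
  have h2 : ∀ k, (2 : ℤ) ∣ n k - m k := fun k => by
    have := (ZMod.intCast_eq_intCast_iff_dvd_sub _ _ 2).mp (h k).symm
    exact_mod_cast this
  choose d hd using h2
  refine ⟨comb d, ?_⟩
  simp only [comb, ← Finset.sum_add_distrib]
  refine Finset.sum_congr rfl fun k _ => ?_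
  rw [← add_smul, ← add_smul]
  congr 1
  linarith [hd k]

/-- A fixed class is determined by its coordinates. -/
theorem fixed_ext {v w : leechLattice} (hv : Fixed v) (hw : Fixed w) (h : kap v = kap w) : Cong v w := by
  obtain ⟨S, hS, hvS⟩ := exists_fixed_rep hv
  obtain ⟨T, hT, hwT⟩ := exists_fixed_rep hw
  refine hvS.trans' (Cong.trans' ?_ hwT.symm')
  rw [eq_comb_of_fixed hS, eq_comb_of_fixed hT]
  refine comb_cong fun k => ?_
  have := congrFun ((kap_cong hvS).symm.trans (h.trans (kap_cong hwT))) k
  exact this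

theorem fixed_of_smul {v : leechLattice} (h : sevW • v = v) : Fixed v := by
  unfold Fixed
  rw [h]
  exact Cong.refl' _

/-- The class with given coordinates. -/
def ofKap (c : Fin 6 → ZMod 2) : leechLattice := comb fun k => ((c k).val : ℤ)

theorem kap_ofKap (c : Fin 6 → ZMod 2) : kap (ofKap c) = c := by
  funext k
  simp [ofKap, kap_comb]

theorem fixed_ofKap (c : Fin 6 → ZMod 2) : Fixed (ofKap c) := fixed_of_smul (sev_comb _)

/-! ### Norms -/

/-- Number of a coordinate vector. -/
def code (c : Fin 6 → ZMod 2) : ℕ := ∑ k, (c k).val * 2 ^ k.val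

/-- The first three coordinates carry the class, or the last three. -/
def InU (c : Fin 6 → ZMod 2) : Prop := c ≠ 0 ∧ c 3 = 0 ∧ c 4 = 0 ∧ c 5 = 0

/-- The last three coordinates carry the class. -/
def InW (c : Fin 6 → ZMod 2) : Prop := c ≠ 0 ∧ c 0 = 0 ∧ c 1 = 0 ∧ c 2 = 0

instance (c : Fin 6 → ZMod 2) : Decidable (InU c) := inferInstanceAs (Decidable (_ ∧ _ ∧ _ ∧ _))
instance (c : Fin 6 → ZMod 2) : Decidable (InW c) := inferInstanceAs (Decidable (_ ∧ _ ∧ _ ∧ _))

/-- A short representative. -/
def wit (c : Fin 6 → ZMod 2) (k : Fin 6) : ℤ := (witL.getD (code c) []).getD k.val 0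

/-- The squared length of a combination. -/
def combNorm (n : Fin 6 → ℤ) : ℤ := ∑ p, (∑ k, n k * basE k (cls p)) ^ 2

theorem sqNorm_comb (n : Fin 6 → ℤ) : sqNorm (comb n : GolayPt → ℤ) = combNorm n := by
  simp only [sqNorm, combNorm, comb_apply]

theorem wit_facts : ∀ c : Fin 6 → ZMod 2, (∀ k, (wit c k : ZMod 2) = c k) ∧
    (InU c ∨ InW c → combNorm (wit c) = 64) ∧
    (¬ (InU c ∨ InW c) → combNorm (wit c) ≤ 48 ∧ (c = 0 → combNorm (wit c) = 0)) := by decide +kernel

/-- A vector of squared length 64 is congruent to no vector of squared length at most 48. -/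
theorem not_cong_short {v w : leechLattice} (h : Cong v w) (hv : sqNorm (v : GolayPt → ℤ) = 64)
    (hw : sqNorm (w : GolayPt → ℤ) ≤ 48) : False := by
  obtain ⟨u, rfl⟩ := h
  have hu : u ≠ 0 := fun e => by rw [e, add_zero, add_zero] at hv; omega
  have hu' : w + u ≠ 0 := fun e => by
    have e2 : w + (u + u) = -w := by
      rw [eq_neg_iff_add_eq_zero]
      calc w + (u + u) + w = (w + u) + (w + u) := by abel
        _ = 0 := by rw [e, add_zero]
    rw [e2] at hv
    have : sqNorm ((-w : leechLattice) : GolayPt → ℤ) = sqNorm (w : GolayPt → ℤ) := by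
      simp [sqNorm]
    omega
  have h1 := min_norm u.2 (coe_ne_zero hu)
  have h2 := min_norm (w + u).2 (coe_ne_zero hu')
  have key : sqNorm ((w + (u + u) : leechLattice) : GolayPt → ℤ) + sqNorm (w : GolayPt → ℤ) =
      2 * sqNorm ((w + u : leechLattice) : GolayPt → ℤ) + 2 * sqNorm (u : GolayPt → ℤ) := by
    simp only [sqNorm, AddSubgroup.coe_add, Pi.add_apply, Finset.mul_sum, ← Finset.sum_add_distrib]
    exact Finset.sum_congr rfl fun i _ => by ring
  omega

/-- The fourteen fixed classes of squared length 64. -/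
theorem fixed64_iff {v : leechLattice} (hv : Fixed v) :
    (∃ y : leechLattice, Cong y v ∧ sqNorm (y : GolayPt → ℤ) = 64) ↔ InU (kap v) ∨ InW (kap v) := by
  obtain ⟨h1, h2, h3⟩ := wit_facts (kap v)
  have hc : Cong v (comb (wit (kap v))) := by
    refine fixed_ext hv (fixed_of_smul (sev_comb _)) ?_
    rw [kap_comb]
    funext k
    exact (h1 k).symm
  constructor
  · rintro ⟨y, hy, hn⟩
    by_contra hne
    exact not_cong_short (hy.trans' hc) hn (by rw [sqNorm_comb]; exact (h3 hne).1)
  · intro h
    exact ⟨comb (wit (kap v)), hc.symm', by rw [sqNorm_comb]; exact h2 h⟩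

end CfsgLib.MonsterType.Held
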