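import Cfsg.Agent.Lib.MonsterType.Held.Centralizer
import Cfsg.Agent.Lib.MonsterType.Orbit
import Cfsg.Agent.Lib.MonsterType.LocalLift

/-! An element of order 7 commuting with two commuting conjugates of `z`, in normal position, and lifts
commuting with it. -/

set_option autoImplicit false

namespace CfsgLib.MonsterType.Held

open Cfsg CfsgLib.LargeExtra CfsgLib.MonsterType.Local
open scoped Pointwise

variable {G : Type*} [Group G] [Finite G] {z : G} {Q : Subgroup (cz z)} [Q.Normal]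
  {e : cz z ⧸ Q ≃* Spor.Co1} {ψ : leechLattice → Q ⧸ Subgroup.center Q}

/-- A normal position for a Sylow 7-subgroup of a two-point centraliser. -/
theorem exists_normal_position (hM : IsOfMonsterType z Q) {x : Q} (hconj : IsConj z (gval x))
    (hne : gval x ≠ z) {B : Subgroup G} (hB : B ≤ Subgroup.centralizer ({z, gval x} : Set G))
    (hBp : Nat.card B = 7 ^ (Nat.card ↥(Subgroup.centralizer ({z, gval x} : Set G))).factorization 7) :
    ∃ (e : cz z ⧸ Q ≃* Spor.Co1) (ψ : leechLattice → Q ⧸ Subgroup.center Q) (b : G) (hbz : b ∈ cz z),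
      IsLeechModTwoIso Q e ψ ∧ B = Subgroup.zpowers b ∧ orderOf b = 7 ∧ b * gval x = gval x * b ∧
      e (QuotientGroup.mk ⟨b, hbz⟩) = QuotientGroup.mk sevW := by
  classical
  haveI : Fact (Nat.Prime 7) := ⟨by norm_num⟩
  obtain ⟨hS, e0, ψ0, hψ0⟩ := hM
  obtain ⟨v, hv, hvx⟩ := exists_norm64 orbitFacts hS hψ0 hconj hne
  obtain ⟨γ0, hγ0⟩ := orbitFacts.t64 (LeechEight.latE none) v (sqNorm_image_latE 1 none ▸ by simp) hv
  set e1 := e0.trans (MulAut.conj (QuotientGroup.mk γ0 : Spor.Co1)⁻¹)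
  set ψ1 : leechLattice → Q ⧸ Subgroup.center Q := fun w => ψ0 (γ0 • w)
  have hψ1 : IsLeechModTwoIso Q e1 ψ1 := iso_twist hψ0 γ0
  have hx : ψ1 (LeechEight.latE none) = QuotientGroup.mk x := by
    show ψ0 (γ0 • LeechEight.latE none) = _
    rw [(psi_cong hψ0).mp hγ0, hvx]
  obtain ⟨g, hg⟩ := isConj_iff.mp hconj
  have hpair := setting_pairAt hS (hg ▸ gval_mem x) (hg ▸ hne)
  have hx1 : gval x ≠ 1 := hg ▸ hpair.s_ne_one
  set S := MulAction.stabilizer Co0 CfsgLib.Golay.stdCrossL with hSdef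
  have hS49 : ¬ 7 ^ 2 ∣ Nat.card S := by rw [CfsgLib.Golay.natCard_stabilizer_stdCrossL]; norm_num
  have hXiff : ∀ γ : Co0, (QuotientGroup.mk γ : Spor.Co1) ∈ (imgX Q (gval x)).map e1.toMonoidHom ↔ γ ∈ S :=
    fun γ => (mem_map_imgX_iff hS hψ1 hx hx1 hne γ).trans
      (cong_latE_iff.trans CfsgLib.Golay.mem_stabilizer_stdCrossL.symm)
  haveI : Finite S := Nat.finite_of_card_ne_zero (by rw [CfsgLib.Golay.natCard_stabilizer_stdCrossL]; norm_num)
  set Z := Subgroup.centralizer ({z, gval x} : Set G) with hZ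
  have hZmem : ∀ {c : G}, c ∈ Z ↔ c * z = z * c ∧ c * gval x = gval x * c := by
    intro c
    rw [hZ, Subgroup.mem_centralizer_iff]
    refine ⟨fun h => ⟨(h z (Or.inl rfl)).symm, (h _ (Or.inr rfl)).symm⟩, ?_⟩
    rintro ⟨h1, h2⟩ _ (rfl | rfl)
    exacts [h1.symm, h2.symm]
  let r : Z →* cz z ⧸ Q := (QuotientGroup.mk' Q).comp
    (Subgroup.inclusion (fun c hc => Subgroup.mem_centralizer_singleton_iff.mpr (hZmem.mp hc).1))
  have hr : r.range = imgX Q (gval x) := by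
    ext a
    constructor
    · rintro ⟨c, rfl⟩
      exact ⟨⟨c, Subgroup.mem_centralizer_singleton_iff.mpr (hZmem.mp c.2).1⟩,
        ⟨Subgroup.mem_centralizer_singleton_iff.mpr (hZmem.mp c.2).1,
          Subgroup.mem_centralizer_singleton_iff.mpr (hZmem.mp c.2).2⟩, rfl⟩
    · rintro ⟨c, hc, rfl⟩
      exact ⟨⟨c, hZmem.mpr ⟨Subgroup.mem_centralizer_singleton_iff.mp hc.1,
        Subgroup.mem_centralizer_singleton_iff.mp hc.2⟩⟩, rfl⟩
  have hX : Nat.card (imgX Q (gval x)) ∣ Nat.card S := by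
    rw [Nat.card_congr ((imgX Q (gval x)).equivMapOfInjective e1.toMonoidHom e1.injective).toEquiv]
    have : (imgX Q (gval x)).map e1.toMonoidHom = S.map (QuotientGroup.mk' (Subgroup.center Co0)) := by
      ext a
      obtain ⟨γ, rfl⟩ := QuotientGroup.mk_surjective a
      rw [hXiff]
      constructor
      · exact fun h => ⟨γ, h, rfl⟩
      · rintro ⟨δ, hδ, hd⟩
        refine (hXiff γ).mp ?_
        rw [show (QuotientGroup.mk γ : Spor.Co1) = QuotientGroup.mk δ from hd.symm]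
        exact (hXiff δ).mpr hδ
    rw [show Nat.card ↥((imgX Q (gval x)).map e1.toMonoidHom) = Nat.card ↥(S.map (QuotientGroup.mk' _)) by rw [this]]
    exact Subgroup.card_map_dvd _ _
  have hk2 : ∃ k, Nat.card r.ker = 2 ^ k := by
    haveI : Fact (Nat.Prime 2) := ⟨Nat.prime_two⟩
    refine IsPGroup.iff_card.mp fun c => ?_
    obtain ⟨k, hk⟩ := hS.2.2.1.1.1 ⟨_, (QuotientGroup.eq_one_iff _).mp c.2⟩
    refine ⟨k, Subtype.ext (Subtype.ext ?_)⟩
    have h' := congrArg (fun q : Q => gval q) hk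
    simp only [gval, Subgroup.coe_pow] at h' ⊢
    exact h'
  obtain ⟨k, hk⟩ := hk2
  have hcardZ : Nat.card Z = 2 ^ k * Nat.card (imgX Q (gval x)) := by
    rw [← hr, ← hk, ← Subgroup.index_ker, Subgroup.card_mul_index]
  have h49 : ¬ 7 ^ 2 ∣ Nat.card Z := by
    rw [hcardZ]
    intro h
    exact hS49 ((Nat.Coprime.dvd_of_dvd_mul_left (Nat.Coprime.pow_right k (by norm_num)) h).trans hX)
  have hsevS : sevW ∈ S := CfsgLib.Golay.mem_stabilizer_stdCrossL.mpr
    ⟨0, sev, by rw [show sgnW (0 : golayCode) = 1 from map_one sgnHom, one_mul]; rfl⟩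
  have hsev1 : ∀ γ : Co0, γ ∈ Subgroup.center Co0 → sevW ≠ γ := by
    intro γ hγ h
    have h7 := sevW_pow_seven
    rcases center_cases hγ with rfl | rfl
    · have := congrArg (fun δ : Co0 => δ • LeechEight.latE (CfsgLib.Golay.pt 0)) h
      rw [sevW, permW_latE, one_smul] at this
      have h2 := latE_inj (Or.inl this)
      revert h2
      decide +kernel
    · rw [h] at h7
      have := congrArg (fun δ : Co0 => ((δ • LeechEight.latE none : leechLattice) : GolayPt → ℤ) none) h7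
      simp [pow_succ, mul_smul, sgnW_apply, latE_apply] at this
  have h7Z : 7 ∣ Nat.card Z := by
    rw [hcardZ]
    refine dvd_mul_of_dvd_right ?_ _
    have hm := (hXiff sevW).mpr hsevS
    obtain ⟨a, ha, hae⟩ := hm
    have h7 : a ^ 7 = 1 := e1.injective (by
      rw [map_pow, map_one, show e1 a = _ from hae, ← QuotientGroup.mk_pow, sevW_pow_seven]; rfl)
    have ha1 : a ≠ 1 := fun e2 => hsev1 _ (one_mem _) (by
      rw [e2, map_one] at hae
      rcases center_cases ((QuotientGroup.eq_one_iff _).mp hae.symm) with e3 | e3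
      · exact e3
      · exact absurd e3 (hsev1 _ neg_mem_center))
    rw [← orderOf_eq_of_pow h7 ha1, ← Subgroup.orderOf_mk _ ha]
    exact orderOf_dvd_natCard _
  have hB7 : Nat.card B = 7 := by
    have hf : (Nat.card Z).factorization 7 = 1 := by
      refine le_antisymm ?_ ((Nat.Prime.pow_dvd_iff_le_factorization (by norm_num) Nat.card_pos.ne').mp
        (by simpa using h7Z))
      by_contra hlt
      push Not at hlt
      exact h49 (by simpa using (Nat.Prime.pow_dvd_iff_le_factorization (p := 7) (by norm_num)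
        Nat.card_pos.ne').mpr (Nat.succ_le_of_lt hlt))
    rw [hBp, hf, pow_one]
  obtain ⟨b0, hb0⟩ : ∃ b0 : B, b0 ≠ 1 := by
    by_contra h
    push Not at h
    haveI : Subsingleton B := ⟨fun a c => (h a).trans (h c).symm⟩
    rw [Nat.card_of_subsingleton (1 : B)] at hB7
    norm_num at hB7
  have hb0p : (b0 : G) ^ 7 = 1 := by
    rw [← hB7, ← SubmonoidClass.coe_pow, pow_card_eq_one']; rfl
  have hb0z : (b0 : G) ∈ cz z := Subgroup.mem_centralizer_singleton_iff.mpr (hZmem.mp (hB b0.2)).1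
  obtain ⟨γ, hγ⟩ := QuotientGroup.mk_surjective (e1 (QuotientGroup.mk ⟨b0, hb0z⟩))
  have hγS : γ ∈ S := by
    refine (hXiff γ).mp ?_
    rw [hγ]
    exact ⟨_, hr ▸ (⟨⟨b0, hB b0.2⟩, rfl⟩ : _ ∈ r.range), rfl⟩
  have hbQ : ∀ {c : G}, c ∈ B → c ∈ qm Q → c = 1 := by
    intro c hc hcQ
    haveI : Fact (Nat.Prime 2) := ⟨Nat.prime_two⟩
    obtain ⟨k', hk'⟩ := (hS.2.2.1.1.1.map (cz z).subtype) ⟨c, hcQ⟩
    have h1 : orderOf c ∣ 2 ^ k' := orderOf_dvd_of_pow_eq_one (congrArg Subtype.val hk')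
    have h2 : orderOf c ∣ 7 := by
      rw [← hB7, ← Subgroup.orderOf_mk _ hc]; exact orderOf_dvd_natCard _
    have h3 := Nat.dvd_gcd h1 h2
    rw [(Nat.Coprime.pow_left k' (by norm_num : Nat.Coprime 2 7))] at h3
    exact orderOf_eq_one_iff.mp (Nat.dvd_one.mp h3)
  set γ' := γ ^ 8 with hγ'
  have hγ'e : (QuotientGroup.mk γ' : Spor.Co1) = e1 (QuotientGroup.mk ⟨b0, hb0z⟩) := by
    rw [hγ', QuotientGroup.mk_pow, hγ, ← map_pow, ← QuotientGroup.mk_pow]
    congr 2
    exact Subtype.ext (show (b0 : G) ^ 8 = b0 by rw [pow_succ, hb0p, one_mul])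
  have hγ7 : γ' ^ 7 = 1 := by
    have hc : γ ^ 7 ∈ Subgroup.center Co0 := by
      rw [← QuotientGroup.eq_one_iff, QuotientGroup.mk_pow, hγ, ← map_pow, ← QuotientGroup.mk_pow,
        show (⟨b0, hb0z⟩ : cz z) ^ 7 = 1 from Subtype.ext hb0p, QuotientGroup.mk_one, map_one]
    rw [hγ', ← pow_mul, show 8 * 7 = 7 * 8 from rfl, pow_mul]
    rcases center_cases hc with e2 | e2 <;> rw [e2]
    · exact one_pow _
    · exact co0_ext fun w => Subtype.ext (funext fun p => by
        simp [pow_succ, mul_smul, sgnW_apply])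
  have hb0Q : (b0 : G) ∉ qm Q := fun h => hb0 (Subtype.ext (hbQ b0.2 h))
  have hγ'1 : γ' ≠ 1 := by
    intro h
    rw [h, QuotientGroup.mk_one, eq_comm, map_eq_one_iff _ e1.injective, QuotientGroup.eq_one_iff] at hγ'e
    exact hb0Q (coe_mem_qm.mpr hγ'e)
  obtain ⟨⟨η, hη⟩, hconj'⟩ := exists_conj_zpowers (H := S) (a := ⟨γ', pow_mem hγS 8⟩) (c := ⟨sevW, hsevS⟩)
    (by rw [← orderOf_eq_of_pow hγ7 hγ'1]; exact (Subgroup.orderOf_coe _).symm)
    (by rw [← orderOf_eq_of_pow sevW_pow_seven (hsev1 1 (one_mem _))]; exact (Subgroup.orderOf_coe _).symm)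
    hS49
  obtain ⟨j, hj⟩ := Subgroup.mem_zpowers_iff.mp hconj'
  have hj' : γ' ^ j = η * sevW * η⁻¹ := by simpa using congrArg Subtype.val hj
  set b := (b0 : G) ^ j with hb
  have hbz : b ∈ cz z := zpow_mem hb0z j
  have hbB : b ∈ B := zpow_mem b0.2 j
  have heq : (e1.trans (MulAut.conj (QuotientGroup.mk η : Spor.Co1)⁻¹)) (QuotientGroup.mk ⟨b, hbz⟩) =
      QuotientGroup.mk sevW := by
    rw [show (⟨b, hbz⟩ : cz z) = ⟨b0, hb0z⟩ ^ j from Subtype.ext (by simp [hb]), QuotientGroup.mk_zpow]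
    rw [MulEquiv.trans_apply, map_zpow e1, ← hγ'e, ← QuotientGroup.mk_zpow, hj', MulAut.conj_apply, inv_inv,
      ← QuotientGroup.mk_inv, ← QuotientGroup.mk_mul, ← QuotientGroup.mk_mul]
    congr 1
    group
  have hb1 : b ≠ 1 := by
    intro h
    have h2 : (⟨b, hbz⟩ : cz z) = 1 := Subtype.ext h
    rw [h2, QuotientGroup.mk_one, map_one, eq_comm, QuotientGroup.eq_one_iff] at heq
    exact hsev1 _ heq rfl
  have hb7 : orderOf b = 7 := by
    refine orderOf_eq_of_pow ?_ hb1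
    rw [hb, ← zpow_natCast, ← zpow_mul, mul_comm, zpow_mul, zpow_natCast, hb0p, one_zpow]
  refine ⟨_, _, b, hbz, iso_twist hψ1 η, ?_, hb7, (hZmem.mp (hB hbB)).2, heq⟩
  refine (Subgroup.eq_of_le_of_card_ge (Subgroup.zpowers_le.mpr hbB) ?_).symm
  rw [hB7, Nat.card_zpowers, hb7]

variable {b : G} (hS : IsExtraspecialCentralizerSetting z Q 12) (hψ : IsLeechModTwoIso Q e ψ)
  (hb : orderOf b = 7) (hbz : b ∈ cz z) (he : e (QuotientGroup.mk ⟨b, hbz⟩) = QuotientGroup.mk sevW)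

include hS in
theorem isPGroup_qm : IsPGroup 2 (qm Q) := hS.2.2.1.1.1.map _

include hS hψ hb he in
/-- Fixed classes are those of elements commuting with `b`. -/
theorem fixed_iff_commute {v : leechLattice} {q : Q} (hq : ψ v = QuotientGroup.mk q) :
    Fixed v ↔ b * gval q = gval q * b := by
  rw [← mul_inv_eq_iff_eq_mul, Fixed, psi_cong hψ, psi_smul hψ he hq, hq, mk_center_iff hS]
  show b * gval q * b⁻¹ = gval q ∨ b * gval q * b⁻¹ = z * gval q ↔ _
  obtain ⟨hA, -, -⟩ := setting_extraAt hS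
  exact ⟨fun h => mul_inv_eq_iff_eq_mul.mpr (commute_of_sign hb (by decide) hA.sq_one
    (Subgroup.mem_centralizer_singleton_iff.mp hbz) h), Or.inl⟩

include hS hb he in
/-- Elements of the centraliser in the lattice group lift to elements commuting with `b`. -/
theorem exists_lift_cent [Fact (Nat.Prime 7)] {γ : Co0} (hγ : γ ∈ centK) :
    ∃ c : cz z, (c : G) * b = b * c ∧ e (QuotientGroup.mk c) = QuotientGroup.mk γ := by
  obtain ⟨c0, hc0⟩ := exists_lift_Co0 e γ
  have hbn : ∀ p ∈ qm Q, b * p * b⁻¹ ∈ qm Q := fun p hp => by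
    obtain ⟨hpc, hpQ⟩ := mem_qm.mp hp
    exact mem_qm.mpr ⟨mul_mem (mul_mem hbz hpc) (inv_mem hbz),
      (inferInstance : Q.Normal).conj_mem ⟨p, hpc⟩ hpQ ⟨b, hbz⟩⟩
  have hmod : (c0 : G) * b * (c0 : G)⁻¹ * b⁻¹ ∈ qm Q := by
    refine (coe_mem_qm (c := c0 * ⟨b, hbz⟩ * c0⁻¹ * ⟨b, hbz⟩⁻¹)).mpr ?_
    rw [← QuotientGroup.eq_one_iff]
    apply e.injective
    simp only [QuotientGroup.mk_mul, QuotientGroup.mk_inv, map_mul, map_inv, map_one, hc0, he]
    rw [← QuotientGroup.mk_mul, mem_centK.mp hγ, QuotientGroup.mk_mul]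
    group
  obtain ⟨p, hp, hpc⟩ := exists_mul_commute (l := 7) (by norm_num) (isPGroup_qm hS) hb hbn hmod
  obtain ⟨hpz, hpQ⟩ := mem_qm.mp hp
  refine ⟨⟨p, hpz⟩ * c0, hpc, ?_⟩
  rw [QuotientGroup.mk_mul, (QuotientGroup.eq_one_iff _).mpr hpQ, one_mul, hc0]

include he in
/-- The image of an element commuting with `b` lies in the centraliser. -/
theorem exists_rep_cent (c : cz z) (hc : (c : G) * b = b * c) :
    ∃ γ : centK, (QuotientGroup.mk (γ : Co0) : Spor.Co1) = e (QuotientGroup.mk c) := by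
  obtain ⟨γ, hγ⟩ := QuotientGroup.mk_surjective (e (QuotientGroup.mk c))
  have h : (QuotientGroup.mk (γ * sevW * γ⁻¹ * sevW⁻¹) : Spor.Co1) = 1 := by
    rw [show (QuotientGroup.mk (γ * sevW * γ⁻¹ * sevW⁻¹) : Spor.Co1) = QuotientGroup.mk γ * QuotientGroup.mk sevW *
      (QuotientGroup.mk γ)⁻¹ * (QuotientGroup.mk sevW)⁻¹ from rfl, hγ, ← he,
      ← map_inv, ← map_inv, ← map_mul, ← map_mul, ← map_mul, ← QuotientGroup.mk_inv, ← QuotientGroup.mk_inv,
      ← QuotientGroup.mk_mul, ← QuotientGroup.mk_mul, ← QuotientGroup.mk_mul]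
    rw [show c * ⟨b, hbz⟩ * c⁻¹ * ⟨b, hbz⟩⁻¹ = 1 from Subtype.ext (by
      show (c : G) * b * (c : G)⁻¹ * b⁻¹ = 1
      rw [hc, mul_inv_cancel_right, mul_inv_cancel]), QuotientGroup.mk_one, map_one]
  refine ⟨⟨γ, mem_centK.mpr ?_⟩, hγ⟩
  rcases center_cases ((QuotientGroup.eq_one_iff _).mp h) with h1 | h1
  · exact mul_inv_eq_iff_eq_mul.mp (mul_inv_eq_one.mp h1)
  · exfalso
    have h2 : γ * sevW * γ⁻¹ = sgnW ⟨1, one_mem_golay⟩ * sevW := mul_inv_eq_iff_eq_mul.mp h1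
    have hcom : Commute (sgnW ⟨1, one_mem_golay⟩) sevW :=
      ((Subgroup.mem_center_iff.mp neg_mem_center) sevW).symm
    have h3 := congrArg (· ^ 7) h2
    simp only [conj_pow, hcom.mul_pow, sevW_pow_seven, mul_one, mul_inv_cancel] at h3
    have := congrArg (fun δ : Co0 => ((δ • LeechEight.latE none : leechLattice) : GolayPt → ℤ) none) h3
    simp [pow_succ, mul_smul, sgnW_apply, latE_apply] at this

/-- Representatives of one class act alike. -/
theorem rhoHom_congr {γ δ : centK}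
    (h : (QuotientGroup.mk (γ : Co0) : Spor.Co1) = QuotientGroup.mk (δ : Co0)) : rhoHom γ = rhoHom δ := by
  rcases center_cases (QuotientGroup.eq.mp h) with e1 | e1
  · rw [Subtype.ext (inv_mul_eq_one.mp e1)]
  · have hneg : sgnW ⟨1, one_mem_golay⟩ ∈ centK :=
      mem_centK.mpr ((Subgroup.mem_center_iff.mp neg_mem_center) sevW).symm
    have e2 : δ = γ * ⟨_, hneg⟩ := Subtype.ext (inv_mul_eq_iff_eq_mul.mp e1)
    rw [e2, map_mul, show rhoHom ⟨_, hneg⟩ = 1 from Subtype.ext rho_neg, mul_one]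

end CfsgLib.MonsterType.Held
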