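import Cfsg.Agent.Lib.MonsterType.Held.Data

/-! Kernel check that rows carry spanning vectors into the lattice. -/

set_option autoImplicit false
set_option maxRecDepth 20000

namespace CfsgLib.MonsterType.Held

open Cfsg CfsgLib.Golay

theorem baseW1_SpanA : (spanVecs.take 18).all
    (fun s => leechTest fun i => dotInt s (rowsFrame baseW1 i) / 8) = true := by
  decide +kernel

end CfsgLib.MonsterType.Held
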