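import Cfsg.Agent.Lib.MonsterType.Held.BaseURows
import Cfsg.Agent.Lib.MonsterType.Held.BaseUSpanA
import Cfsg.Agent.Lib.MonsterType.Held.BaseUSpanB
import Cfsg.Agent.Lib.MonsterType.Held.BaseW1Rows
import Cfsg.Agent.Lib.MonsterType.Held.BaseW1SpanA
import Cfsg.Agent.Lib.MonsterType.Held.BaseW1SpanB
import Cfsg.Agent.Lib.MonsterType.Held.BaseW2Rows
import Cfsg.Agent.Lib.MonsterType.Held.BaseW2SpanA
import Cfsg.Agent.Lib.MonsterType.Held.BaseW2SpanB

/-! The basic automorphisms, and their composites with monomial ones. -/

set_option autoImplicit false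
set_option maxRecDepth 20000

namespace CfsgLib.MonsterType.Held

open Cfsg CfsgLib.Golay CfsgLib.MonsterType CfsgLib.LeechEight

theorem frameTest_of_parts {R : List (List ℤ)}
    (h1 : (decide (∀ i, leechTest (rowsFrame R i) = true) &&
      decide (∀ i j, dotInt (rowsFrame R i) (rowsFrame R j) = if i = j then 64 else 0) &&
      decide (∀ i k, (rowsFrame R i k - rowsFrame R none k) % 2 = 0) &&
      decide (∀ i, leechTest (fun k => (rowsFrame R i k - rowsFrame R none k) / 2) = true)) = true)
    (h2 : (spanVecs.take 18).all (fun s => leechTest fun i => dotInt s (rowsFrame R i) / 8) = true)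
    (h3 : (spanVecs.drop 18).all (fun s => leechTest fun i => dotInt s (rowsFrame R i) / 8) = true) :
    frameTest R = true := by
  rw [frameTest, h1, ← List.take_append_drop 18 spanVecs, List.all_append, h2, h3]
  rfl

theorem test_baseU : frameTest baseU = true := frameTest_of_parts baseU_rows baseU_SpanA baseU_SpanB

theorem test_baseW1 : frameTest baseW1 = true := frameTest_of_parts baseW1_rows baseW1_SpanA baseW1_SpanB

theorem test_baseW2 : frameTest baseW2 = true := frameTest_of_parts baseW2_rows baseW2_SpanA baseW2_SpanB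

/-- The image of a vector under rows. -/
def rowsAct (R : List (List ℤ)) (x : GolayPt → ℤ) : GolayPt → ℤ := fun p => dotInt x (rowsFrame R p) / 8

/-- Rows of the automorphisms commuting with the permutation. -/
def rowsUi (i : Fin 7) : List (List ℤ) := rowsU.getD i.val []

/-- Rows of the automorphisms inverting it. -/
def rowsWi (i : Fin 7) : List (List ℤ) := rowsW.getD i.val []

/-- Rows of the identity. -/
def idRows : GolayPt → GolayPt → ℤ := fun p k => if k = p then 8 else 0

/-- A list is obtained from a frame by a monomial element. -/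
def monTest (v : GolayPt → GolayPt → ℤ) (R' : List (List ℤ)) (l : List ℕ) (k : ℕ) : Bool :=
  genOK l && decide (∀ q j, rowVec (R'.getD (l.getD (idx q).val 0) []) j =
    if (codeWord k).testBit (l.getD (idx q).val 0) then -v q j else v q j)

/-- The composite of an automorphism with a monomial one, by rows. -/
theorem exists_mono_rows {γ : Co0} {v : GolayPt → GolayPt → ℤ} {R' : List (List ℤ)} {l : List ℕ} {k : ℕ}
    (hv : ∀ q, v q ∈ leechLattice)
    (hγ : ∀ u : leechLattice, ((γ • u : leechLattice) : GolayPt → ℤ) = fun q => dotInt (u : GolayPt → ℤ) (v q) / 8)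
    (h : monTest v R' l k = true) :
    ∃ δ : Co0, ∀ u : leechLattice, ((δ • u : leechLattice) : GolayPt → ℤ) = rowsAct R' (u : GolayPt → ℤ) := by
  rw [monTest, Bool.and_eq_true, decide_eq_true_eq] at h
  obtain ⟨σ, hσ, hl⟩ := exists_perm h.1
  refine ⟨sgnW ⟨dec (codeWord k), dec_codeWord_mem k⟩ * permW ⟨σ, hσ⟩ * γ, fun u => funext fun p => ?_⟩
  obtain ⟨q, rfl⟩ := σ.surjective p
  have h2 : rowsFrame R' (σ q) = if (codeWord k).testBit (idx (σ q)).val then -v q else v q := by
    funext j
    have := h.2 q j
    rw [← hl, toList_getD] at this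
    rw [rowsFrame, this]
    split_ifs <;> rfl
  rw [mul_smul, mul_smul, sgnW_apply, permW_apply, hγ, rowsAct, h2]
  simp only [Equiv.symm_apply_apply]
  by_cases hb : (codeWord k).testBit (idx (σ q)).val
  · simp only [dec, hb, if_true, one_ne_zero, if_false]
    rw [← Int.neg_ediv_of_dvd (eight_dvd_dot u.2 (hv q))]
    congr 1
    simp [dotInt]
  · simp only [dec, hb, if_false, if_true, Bool.false_eq_true]

theorem coe_one_rows (u : leechLattice) :
    (((1 : Co0) • u : leechLattice) : GolayPt → ℤ) = fun q => dotInt (u : GolayPt → ℤ) (idRows q) / 8 := by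
  funext q
  rw [one_smul, dotInt, Finset.sum_eq_single q (fun j _ h => by simp [idRows, h]) (by simp)]
  simp [idRows]

theorem idRows_mem : ∀ q, idRows q ∈ leechLattice := by
  intro q
  refine mem_of_leechTest ?_
  revert q
  decide +kernel

/-- The frame with a given number. -/
def baseFrame (n : ℕ) : GolayPt → GolayPt → ℤ := if n = 0 then idRows else rowsFrame baseU

/-- The frame of the second family with a given number. -/
def baseFrameW (n : ℕ) : GolayPt → GolayPt → ℤ := if n = 1 then rowsFrame baseW1 else rowsFrame baseW2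

theorem selU_test : ∀ i : Fin 7, monTest (baseFrame (selU.getD i.val (0, 0, 0)).1) (rowsUi i)
    (Seven.found1.getD (selU.getD i.val (0, 0, 0)).2.1 []) (fixK.getD (selU.getD i.val (0, 0, 0)).2.2 0) = true := by
  decide +kernel

theorem selW_test : ∀ i : Fin 7, monTest (baseFrameW (selW.getD i.val (0, 0, 0)).1) (rowsWi i)
    (Seven.found1.getD (selW.getD i.val (0, 0, 0)).2.1 []) (fixK.getD (selW.getD i.val (0, 0, 0)).2.2 0) = true := by
  decide +kernel

theorem exists_eU (i : Fin 7) :
    ∃ δ : Co0, ∀ u : leechLattice, ((δ • u : leechLattice) : GolayPt → ℤ) = rowsAct (rowsUi i) (u : GolayPt → ℤ) := by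
  have h := selU_test i
  by_cases hn : (selU.getD i.val (0, 0, 0)).1 = 0
  · rw [baseFrame, if_pos hn] at h
    exact exists_mono_rows idRows_mem coe_one_rows h
  · rw [baseFrame, if_neg hn] at h
    exact exists_mono_rows (isFrame_of_test test_baseU).mem (coe_rowsAut test_baseU) h

theorem exists_eW (i : Fin 7) :
    ∃ δ : Co0, ∀ u : leechLattice, ((δ • u : leechLattice) : GolayPt → ℤ) = rowsAct (rowsWi i) (u : GolayPt → ℤ) := by
  have h := selW_test i
  by_cases hn : (selW.getD i.val (0, 0, 0)).1 = 1
  · rw [baseFrameW, if_pos hn] at h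
    exact exists_mono_rows (isFrame_of_test test_baseW1).mem (coe_rowsAut test_baseW1) h
  · rw [baseFrameW, if_neg hn] at h
    exact exists_mono_rows (isFrame_of_test test_baseW2).mem (coe_rowsAut test_baseW2) h

/-- The automorphisms commuting with the permutation. -/
noncomputable def eU (i : Fin 7) : Co0 := (exists_eU i).choose

/-- The automorphisms inverting it. -/
noncomputable def eW (i : Fin 7) : Co0 := (exists_eW i).choose

theorem coe_eU (i : Fin 7) (u : leechLattice) :
    ((eU i • u : leechLattice) : GolayPt → ℤ) = rowsAct (rowsUi i) (u : GolayPt → ℤ) := (exists_eU i).choose_spec u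

theorem coe_eW (i : Fin 7) (u : leechLattice) :
    ((eW i • u : leechLattice) : GolayPt → ℤ) = rowsAct (rowsWi i) (u : GolayPt → ℤ) := (exists_eW i).choose_spec u

end CfsgLib.MonsterType.Held
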