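import Cfsg.Agent.Lib.MonsterType.Held.Lattice
import Cfsg.Agent.Lib.MonsterType.Held.Frames

/-! Kernel-checked tables for the centraliser of the permutation of order 7. -/

set_option autoImplicit false
set_option maxRecDepth 20000

namespace CfsgLib.MonsterType.Held

open Cfsg CfsgLib.Golay

/-- Coordinates of an integer vector. -/
def kapOf (x : GolayPt → ℤ) (k : Fin 6) : ZMod 2 := ((dotInt x (dual k) / 8 : ℤ) : ZMod 2)

/-- The vector with one entry 8. -/
def vecE0 : GolayPt → ℤ := fun p => if p = none then 8 else 0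

/-- Coordinates of the `i`-th class of the first family. -/
def uc (i : Fin 7) : Fin 6 → ZMod 2 := fun k => (((i.val + 1) / 2 ^ k.val % 2 : ℕ) : ZMod 2)

/-- Coordinates of the `i`-th class of the second family. -/
def wc (i : Fin 7) : Fin 6 → ZMod 2 := fun k => (((i.val + 1) * 8 / 2 ^ k.val % 2 : ℕ) : ZMod 2)

theorem uc_cover : ∀ c : Fin 6 → ZMod 2, InU c → ∃ i, c = uc i := by decide +kernel

theorem wc_cover : ∀ c : Fin 6 → ZMod 2, InW c → ∃ i, c = wc i := by decide +kernel

/-- The first three of six indices. -/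
def up (i : Fin 3) : Fin 6 := ⟨i.val, by omega⟩

theorem inU_bas : ∀ j : Fin 3, InU (kap (bas (up j))) := by decide +kernel

theorem rho_bas : ∀ i j : Fin 3, kap (bas (up j)) (up i) = if i = j then 1 else 0 := by
  decide +kernel

/-- The matrix of a monomial element given by lists. -/
def monMat (l : List ℕ) (k : ℕ) : Matrix (Fin 3) (Fin 3) (ZMod 2) :=
  Matrix.of fun i j => (((∑ q : GolayPt,
    (if (codeWord k).testBit (l.getD (idx q).val 0) then -basV (up j) q else basV (up j) q) *
      (dualL.getD (up i).val []).getD (l.getD (idx q).val 0) 0) / 8 : ℤ) : ZMod 2)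

theorem fixK_inv : ∀ k ∈ fixK, ∀ p : GolayPt,
    (codeWord k).testBit (idx (sevP.symm p)).val = (codeWord k).testBit (idx p).val := by decide +kernel

/-- An encoding of matrices. -/
def encM (M : Matrix (Fin 3) (Fin 3) (ZMod 2)) : ℕ := ∑ i : Fin 3, ∑ j : Fin 3, (M i j).val * 2 ^ (3 * i.val + j.val)

/-- Matrices of the automorphisms commuting with the permutation. -/
def uMat (i : Fin 7) : Matrix (Fin 3) (Fin 3) (ZMod 2) :=
  Matrix.of fun a b => kapOf (rowsAct (rowsUi i) (basV (up b))) (up a)

theorem monIdx_lt : ∀ ab ∈ monIdx, ab.1 < Seven.found1.length ∧ ab.2 < fixK.length := by decide +kernel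

end CfsgLib.MonsterType.Held
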