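import Cfsg.Agent.Lib.MonsterType.Held.Tables

/-! A kernel-checked table for the centraliser of the permutation of order 7. -/

set_option autoImplicit false
set_option maxRecDepth 20000

namespace CfsgLib.MonsterType.Held

open Cfsg CfsgLib.Golay

theorem encM_decode : ∀ M : Matrix (Fin 3) (Fin 3) (ZMod 2),
    Matrix.of (fun i j : Fin 3 => if (encM M).testBit (3 * i.val + j.val) then (1 : ZMod 2) else 0) = M := by
  decide +kernel

end CfsgLib.MonsterType.Held
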