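import Cfsg.Agent.Lib.MonsterType.Held.Tables

/-! A kernel-checked table for the centraliser of the permutation of order 7. -/

set_option autoImplicit false
set_option maxRecDepth 20000

namespace CfsgLib.MonsterType.Held

open Cfsg CfsgLib.Golay

theorem det_table : ∀ M : Matrix (Fin 3) (Fin 3) (ZMod 2),
    (M 0 0 * M 1 1 * M 2 2 - M 0 0 * M 1 2 * M 2 1 - M 0 1 * M 1 0 * M 2 2 + M 0 1 * M 1 2 * M 2 0 +
      M 0 2 * M 1 0 * M 2 1 - M 0 2 * M 1 1 * M 2 0) = 1 → prodL.contains (encM M) = true := by decide +kernel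

end CfsgLib.MonsterType.Held
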