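import Cfsg.Agent.Lib.MonsterType.Held.Tables

/-! A kernel-checked table for the centraliser of the permutation of order 7. -/

set_option autoImplicit false
set_option maxRecDepth 20000

namespace CfsgLib.MonsterType.Held

open Cfsg CfsgLib.Golay

theorem fixK_spec : ((List.range 4096).all fun k => !((List.range 24).all fun i =>
    (codeWord k).testBit (Seven.sevenL.getD i 0) == (codeWord k).testBit i) || fixK.contains k) = true := by
  decide +kernel

end CfsgLib.MonsterType.Held
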