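import Cfsg.Agent.Lib.MonsterType.Held.Tables

/-! A kernel-checked table for the centraliser of the permutation of order 7. -/

set_option autoImplicit false
set_option maxRecDepth 20000

namespace CfsgLib.MonsterType.Held

open Cfsg CfsgLib.Golay

theorem rows_image : (∀ i : Fin 7, kapOf (rowsAct (rowsUi i) vecE0) = uc i) ∧
    (∀ i : Fin 7, kapOf (rowsAct (rowsWi i) vecE0) = wc i) ∧ InU (kapOf vecE0) := by decide +kernel

end CfsgLib.MonsterType.Held
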