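import Cfsg.Agent.Lib.MonsterType.Held.Tables

/-! A kernel-checked table for the centraliser of the permutation of order 7. -/

set_option autoImplicit false
set_option maxRecDepth 20000

namespace CfsgLib.MonsterType.Held

open Cfsg CfsgLib.Golay

theorem kernel_table : ∀ l ∈ Seven.found1, ∀ k ∈ fixK, (∀ i j : Fin 3, (monMat l k i j : ZMod 2).val = if i = j then 1 else 0) →
    (k = 0 ∨ k = 4095) ∧ ∃ t : Fin 7, l = Seven.powL Seven.sevenL t.val := by decide +kernel

end CfsgLib.MonsterType.Held
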