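import Cfsg.Agent.Lib.MonsterType.Held.Tables

/-! A kernel-checked table for the centraliser of the permutation of order 7. -/

set_option autoImplicit false
set_option maxRecDepth 20000

namespace CfsgLib.MonsterType.Held

open Cfsg CfsgLib.Golay

theorem prodL_eq : ((List.finRange 7).flatMap fun i => monIdx.map fun ab =>
    encM (uMat i * monMat (Seven.found1.getD ab.1 []) (fixK.getD ab.2 0))) = prodL := by decide +kernel

end CfsgLib.MonsterType.Held
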