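import Cfsg.Agent.Lib.MonsterType.Held.TabComm
import Cfsg.Agent.Lib.MonsterType.Held.TabImage
import Cfsg.Agent.Lib.MonsterType.Held.TabKernel
import Cfsg.Agent.Lib.MonsterType.Held.TabFixK
import Cfsg.Agent.Lib.MonsterType.Held.TabProd
import Cfsg.Agent.Lib.MonsterType.Held.TabDecode
import Cfsg.Agent.Lib.MonsterType.Held.TabDet
import Cfsg.Agent.Lib.Golay.TransvectionCentralizer
import Cfsg.Agent.S5604

/-! The centraliser of the permutation of order 7 in the automorphism group of the lattice, acting on the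
three-dimensional space of one family of fixed classes. -/

set_option autoImplicit false
set_option maxRecDepth 20000

namespace CfsgLib.MonsterType.Held

open Cfsg CfsgLib.Golay CfsgLib.LeechEight

theorem co0_ext {γ δ : Co0} (h : ∀ v : leechLattice, γ • v = δ • v) : γ = δ := ext_latE fun j => h _

/-! ### Automorphisms given by rows -/

theorem eU_comm (i : Fin 7) : eU i * sevW = sevW * eU i := by
  refine co0_ext fun v => Subtype.ext (funext fun p => ?_)
  rw [mul_smul, mul_smul, sevW_apply, coe_eU, coe_eU, rowsAct, rowsAct]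
  congr 1
  simp only [dotInt, sevW_apply]
  rw [← Equiv.sum_comp sevP]
  simp only [Equiv.symm_apply_apply, rowsU_comm]

theorem eW_comm (i : Fin 7) : eW i * sevW⁻¹ = sevW * eW i := by
  refine co0_ext fun v => Subtype.ext (funext fun p => ?_)
  rw [mul_smul, mul_smul, sevW_apply, coe_eW, coe_eW, rowsAct, rowsAct]
  congr 1
  simp only [dotInt, sevW_inv_apply]
  rw [← Equiv.sum_comp sevP.symm]
  simp only [Equiv.apply_symm_apply, rowsW_comm]

theorem kap_eq (v : leechLattice) : kap v = kapOf (v : GolayPt → ℤ) := rfl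

theorem kap_eU (i : Fin 7) (v : leechLattice) :
    kap (eU i • v) = kapOf (rowsAct (rowsUi i) (v : GolayPt → ℤ)) := by
  rw [kap_eq, coe_eU]

theorem kap_eW (i : Fin 7) (v : leechLattice) :
    kap (eW i • v) = kapOf (rowsAct (rowsWi i) (v : GolayPt → ℤ)) := by
  rw [kap_eq, coe_eW]

theorem coe_latE0 : ((LeechEight.latE none : leechLattice) : GolayPt → ℤ) = vecE0 := funext fun p => latE_apply none p

theorem sev_latE0 : sevW • LeechEight.latE none = LeechEight.latE none := by
  rw [sevW, permW_latE]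
  congr 1

theorem kap_eU_latE0 (i : Fin 7) : kap (eU i • LeechEight.latE none) = uc i := by
  rw [kap_eU, coe_latE0, rows_image.1]

theorem kap_eW_latE0 (i : Fin 7) : kap (eW i • LeechEight.latE none) = wc i := by
  rw [kap_eW, coe_latE0, rows_image.2.1]

theorem inU_latE0 : InU (kap (LeechEight.latE none)) := by
  rw [kap_eq, coe_latE0]
  exact rows_image.2.2

/-! ### The centraliser -/

/-- The centraliser. -/
abbrev centK : Subgroup Co0 := Subgroup.centralizer ({sevW} : Set Co0)

theorem mem_centK {γ : Co0} : γ ∈ centK ↔ γ * sevW = sevW * γ := Subgroup.mem_centralizer_singleton_iff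

theorem eU_mem (i : Fin 7) : eU i ∈ centK := mem_centK.mpr (eU_comm i)

theorem fixed_smul_cent {γ : Co0} (hγ : γ ∈ centK) {v : leechLattice} (hv : Fixed v) : Fixed (γ • v) := by
  have h := hv.smul' γ
  rwa [← mul_smul, mem_centK.mp hγ, mul_smul] at h

theorem fixed_eW (i : Fin 7) : Fixed (eW i • LeechEight.latE none) := by
  apply fixed_of_smul
  rw [← mul_smul, ← eW_comm, mul_smul, inv_smul_eq_iff.mpr sev_latE0.symm]

theorem sgnW_injective {c d : golayCode} (h : sgnW c = sgnW d) : c = d := by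
  refine Subtype.ext (funext fun j => ?_)
  have hj := congrArg (fun γ : Co0 => ((γ • LeechEight.latE j : leechLattice) : GolayPt → ℤ) j) h
  simp only [sgnW_apply, latE_apply, if_true] at hj
  rcases zmod2_cases (c.1 j) with e | e <;> rcases zmod2_cases (d.1 j) with e' | e' <;> simp_all

theorem sev_sgn (c : golayCode) :
    sevW * sgnW c = sgnW ⟨_, act_code sev.2 c⟩ * sevW := mul_inv_eq_iff_eq_mul.mp (perm_sgn sev c)

theorem permW_mul (σ τ : M24) : permW (σ * τ) = permW σ * permW τ := map_mul permHom σ τ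

theorem permW_inv (σ : M24) : permW σ⁻¹ = (permW σ)⁻¹ := map_inv permHom σ

/-- No element of the centraliser carries the standard class to the second family. -/
theorem not_inW {γ : Co0} (hγ : γ ∈ centK) : ¬ InW (kap (γ • LeechEight.latE none)) := by
  intro h
  obtain ⟨i, hi⟩ := wc_cover _ h
  have hc : Cong (γ • LeechEight.latE none) (eW i • LeechEight.latE none) :=
    fixed_ext (fixed_smul_cent hγ (fixed_of_smul sev_latE0)) (fixed_eW i) (by rw [hi, kap_eW_latE0])
  have hc' : Cong (((eW i)⁻¹ * γ) • LeechEight.latE none) (LeechEight.latE none) := by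
    have := hc.smul' (eW i)⁻¹
    rwa [inv_smul_smul, ← mul_smul] at this
  obtain ⟨c, π, hm⟩ := cong_latE_iff.mp hc'
  have e1 : (eW i)⁻¹ * sevW = sevW⁻¹ * (eW i)⁻¹ := by
    rw [inv_mul_eq_iff_eq_mul, ← mul_assoc, eq_mul_inv_iff_mul_eq, eW_comm]
  have e2 : sevW * ((eW i)⁻¹ * γ) * sevW = (eW i)⁻¹ * γ := by
    rw [mul_assoc, mul_assoc (eW i)⁻¹ γ, mem_centK.mp hγ, ← mul_assoc (eW i)⁻¹ sevW, e1]
    group
  rw [hm] at e2
  have e3 : sgnW ⟨_, act_code sev.2 c⟩ * permW (sev * π * sev) = sgnW c * permW π := by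
    rw [permW_mul, permW_mul, ← e2]
    show _ = sevW * _ * sevW
    rw [← mul_assoc sevW, sev_sgn]
    simp only [sevW, mul_assoc]
  have h4 : sev * π * sev = π := mono_unique e3
  have h5 : (π : Equiv.Perm GolayPt) * sevP * (π : Equiv.Perm GolayPt)⁻¹ = sevP ^ 6 := by
    have h5' : π * sev * π⁻¹ = sev ^ 6 := by
      have h6 : sev ^ 6 = sev⁻¹ := eq_inv_of_mul_eq_one_left (by rw [← pow_succ, sev_pow_seven])
      rw [h6, eq_inv_iff_mul_eq_one]
      calc π * sev * π⁻¹ * sev = sev⁻¹ * (sev * π * sev) * π⁻¹ * sev := by group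
        _ = 1 := by rw [h4]; group
    exact congrArg Subtype.val h5'
  have h6 := (Cfsg.Agent.S5604.mem_searchK toList_sevP (by norm_num) (by norm_num)).mp ⟨π.2, h5⟩
  rw [Seven.searchK_found (by norm_num) (by norm_num)] at h6
  simp [Seven.found, Seven.found6] at h6

theorem inU_latE0_smul {γ : Co0} (hγ : γ ∈ centK) : InU (kap (γ • LeechEight.latE none)) := by
  have h := (fixed64_iff (fixed_smul_cent hγ (fixed_of_smul sev_latE0))).mp
    ⟨_, Cong.refl' _, sqNorm_image_latE γ none⟩
  exact h.resolve_right (not_inW hγ)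

/-- The centraliser preserves the first family. -/
theorem inU_smul {γ : Co0} (hγ : γ ∈ centK) {v : leechLattice} (hv : Fixed v) (h : InU (kap v)) :
    InU (kap (γ • v)) := by
  obtain ⟨i, hi⟩ := uc_cover _ h
  have hc : Cong v (eU i • LeechEight.latE none) :=
    fixed_ext hv (fixed_smul_cent (eU_mem i) (fixed_of_smul sev_latE0)) (by rw [hi, kap_eU_latE0])
  rw [kap_cong (hc.smul' γ), ← mul_smul]
  exact inU_latE0_smul (mul_mem hγ (eU_mem i))

/-! ### The action on the first family -/

/-- The matrix of an element on the first family. -/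
def rho (γ : Co0) : Matrix (Fin 3) (Fin 3) (ZMod 2) :=
  Matrix.of fun i j => kap (γ • bas (up j)) (up i)

theorem kap_smul_linear {γ : Co0} (hγ : γ ∈ centK) {v : leechLattice} (hv : Fixed v)
    (h : kap v 3 = 0 ∧ kap v 4 = 0 ∧ kap v 5 = 0) :
    kap (γ • v) = ∑ l : Fin 3, (kap v (up l)).val • kap (γ • bas (up l)) := by
  have hc : Cong v (ofKap (kap v)) := fixed_ext hv (fixed_ofKap _) (kap_ofKap _).symm
  rw [kap_cong (hc.smul' γ)]
  show kap (addHom γ (∑ k, ((kap v k).val : ℤ) • bas k)) = _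
  rw [map_sum, map_sum, Fin.sum_univ_six, Fin.sum_univ_three, h.1, h.2.1, h.2.2]
  simp only [natCast_zsmul, Nat.cast_zero, ZMod.val_zero, zero_smul, map_zero, add_zero, map_nsmul]
  rfl

theorem rho_mul {γ δ : Co0} (hγ : γ ∈ centK) (hδ : δ ∈ centK) : rho (γ * δ) = rho γ * rho δ := by
  ext i j
  have hU := inU_smul hδ (fixed_of_smul (sev_bas (up j))) (inU_bas j)
  rw [Matrix.mul_apply]
  simp only [rho, Matrix.of_apply, mul_smul]
  rw [kap_smul_linear hγ (fixed_smul_cent hδ (fixed_of_smul (sev_bas (up j)))) hU.2, Finset.sum_apply]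
  refine Finset.sum_congr rfl fun l _ => ?_
  rw [Pi.smul_apply, nsmul_eq_mul, ZMod.natCast_zmod_val, mul_comm]

theorem rho_one : rho 1 = 1 := by
  ext i j
  simp only [rho, Matrix.of_apply, one_smul, rho_bas, Matrix.one_apply]

theorem rho_sevW : rho sevW = 1 := by
  ext i j
  simp only [rho, Matrix.of_apply, sev_bas, rho_bas, Matrix.one_apply]

theorem rho_neg : rho (sgnW ⟨1, one_mem_golay⟩) = 1 := by
  ext i j
  have h : sgnW ⟨1, one_mem_golay⟩ • bas (up j) = -bas (up j) := by
    apply Subtype.ext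
    funext p
    rw [sgnW_apply]
    simp
  simp only [rho, Matrix.of_apply, h, map_neg, Pi.neg_apply, ZMod.neg_eq_self_mod_two, rho_bas, Matrix.one_apply]

/-- An element fixing every fixed class acts trivially. -/
theorem rho_eq_one_of_fix {γ : Co0} (h : ∀ v, Fixed v → Cong (γ • v) v) : rho γ = 1 := by
  ext i j
  simp only [rho, Matrix.of_apply, kap_cong (h _ (fixed_of_smul (sev_bas (up j)))), rho_bas, Matrix.one_apply]

/-- The action as a homomorphism to the special linear group. -/
def rhoHom : centK →* Matrix.SpecialLinearGroup (Fin 3) (ZMod 2) :=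
  MonoidHom.mk' (fun γ => ⟨rho γ, Transvection.det_eq_one (B := rho ((γ⁻¹ : centK) : Co0))
    (by rw [← rho_mul γ.2 (γ⁻¹).2, ← Subgroup.coe_mul, mul_inv_cancel, Subgroup.coe_one, rho_one])⟩)
    fun γ δ => Subtype.ext (rho_mul γ.2 δ.2)

theorem rhoHom_coe (γ : centK) : (rhoHom γ : Matrix (Fin 3) (Fin 3) (ZMod 2)) = rho γ := rfl

/-! ### Monomial elements -/

theorem rho_mono {c : golayCode} {π : M24} {l : List ℕ} {k : ℕ}
    (hl : toList (π : Equiv.Perm GolayPt) = l) (hk : enc c.1 = codeWord k) :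
    rho (sgnW c * permW π) = monMat l k := by
  ext i j
  simp only [rho, monMat, Matrix.of_apply, kap_eq, kapOf, dotInt]
  congr 2
  rw [← Equiv.sum_comp (π : Equiv.Perm GolayPt)]
  refine Finset.sum_congr rfl fun q _ => ?_
  rw [mul_smul, sgnW_apply, permW_apply, Equiv.symm_apply_apply, ← hl, toList_getD, ← hk, testBit_enc]
  show _ * rowVec _ _ = _
  congr 1
  rcases zmod2_cases (c.1 ((π : Equiv.Perm GolayPt) q)) with e | e <;> simp [e] <;> rfl

theorem mono_cent {c : golayCode} {π : M24} (h : sgnW c * permW π ∈ centK) :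
    toList (π : Equiv.Perm GolayPt) ∈ Seven.found1 ∧ ∃ k ∈ fixK, enc c.1 = codeWord k := by
  have h1 := mem_centK.mp h
  have h2 : sgnW c * permW (π * sev) = sgnW ⟨_, act_code sev.2 c⟩ * permW (sev * π) := by
    rw [permW_mul, permW_mul, ← mul_assoc, ← mul_assoc]
    show sgnW c * permW π * sevW = sgnW _ * sevW * permW π
    rw [h1, ← sev_sgn, mul_assoc]
  have h3 : π * sev = sev * π := mono_unique h2
  have h4 : (⟨_, act_code sev.2 c⟩ : golayCode) = c := by
    apply sgnW_injective
    rw [h3] at h2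
    exact (mul_right_cancel h2).symm
  constructor
  · have h5 : (π : Equiv.Perm GolayPt) * sevP * (π : Equiv.Perm GolayPt)⁻¹ = sevP ^ 1 := by
      have h6 : π * sev * π⁻¹ = sev := mul_inv_eq_iff_eq_mul.mpr h3
      rw [pow_one]
      exact congrArg Subtype.val h6
    have h6 := (Cfsg.Agent.S5604.mem_searchK toList_sevP (by norm_num) (by norm_num)).mp ⟨π.2, h5⟩
    rwa [Seven.searchK_found (by norm_num) (by norm_num)] at h6
  · obtain ⟨k, hk, hkc⟩ := exists_codeWord (mem_golayCode.mp c.2)
    refine ⟨k, ?_, hkc.symm⟩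
    have h5 := List.all_eq_true.mp fixK_spec k (List.mem_range.mpr hk)
    simp only [Bool.or_eq_true, Bool.not_eq_true', List.contains_iff_mem] at h5
    refine h5.resolve_left ?_
    rw [Bool.not_eq_false, List.all_eq_true]
    intro i hi
    obtain ⟨p, rfl⟩ : ∃ p, (idx p).val = i := ⟨pt ⟨i, List.mem_range.mp hi⟩, by rw [idx_pt]⟩
    rw [beq_iff_eq, ← toList_sevP, toList_getD, hkc, testBit_enc, testBit_enc]
    have h6 := congrFun (congrArg Subtype.val h4) (sevP p)
    simp only [GolayModule.act_apply] at h6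
    rw [show (sev : Equiv.Perm GolayPt).symm (sevP p) = p from Equiv.symm_apply_apply _ _] at h6
    rw [h6]

theorem exists_mono {l : List ℕ} {k : ℕ} (hl : l ∈ Seven.found1) (hk : k ∈ fixK) :
    ∃ γ ∈ centK, rho γ = monMat l k := by
  have hl' : l ∈ Seven.searchK 1 := by rw [Seven.searchK_found (by norm_num) (by norm_num)]; exact hl
  have hg : genOK l = true := by
    have := List.all_eq_true.mp Seven.norm_valid 1 (List.mem_range.mpr (by norm_num))
    simp only [Bool.or_eq_true, beq_iff_eq, one_ne_zero, false_or, List.all_eq_true, Bool.and_eq_true] at this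
    exact (this l hl).1
  obtain ⟨σ, hσ, hσl⟩ := exists_perm hg
  obtain ⟨-, hc⟩ := (Cfsg.Agent.S5604.mem_searchK toList_sevP (by norm_num) (by norm_num)).mpr (hσl ▸ hl')
  set c : golayCode := ⟨dec (codeWord k), dec_codeWord_mem k⟩ with hcdef
  have hck : enc c.1 = codeWord k := enc_dec (codeWord_lt k)
  refine ⟨sgnW c * permW ⟨σ, hσ⟩, mem_centK.mpr ?_, rho_mono (π := ⟨σ, hσ⟩) hσl hck⟩
  have hc' : (⟨_, act_code sev.2 c⟩ : golayCode) = c := by
    refine Subtype.ext (funext fun p => ?_)
    show dec (codeWord k) (sevP.symm p) = dec (codeWord k) p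
    simp only [dec, fixK_inv k hk p]
  have hπ : (⟨σ, hσ⟩ : M24) * sev = sev * ⟨σ, hσ⟩ := by
    refine Subtype.ext ?_
    show σ * sevP = sevP * σ
    rw [pow_one, mul_inv_eq_iff_eq_mul] at hc
    exact hc
  show sgnW c * permW _ * permW sev = sevW * (sgnW c * permW _)
  rw [← mul_assoc sevW, sev_sgn, hc', mul_assoc, mul_assoc, sevW, ← permW_mul, ← permW_mul, hπ]

theorem encM_injective : Function.Injective encM := fun A B h => by
  rw [← encM_decode A, h, encM_decode B]

/-- The kernel of the action. -/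
theorem rho_eq_one {γ : Co0} (hγ : γ ∈ centK) (h : rho γ = 1) :
    ∃ t : ℕ, γ = sevW ^ t ∨ γ = sgnW ⟨1, one_mem_golay⟩ * sevW ^ t := by
  have hU := inU_latE0
  have hfix : Cong (γ • LeechEight.latE none) (LeechEight.latE none) := by
    refine fixed_ext (fixed_smul_cent hγ (fixed_of_smul sev_latE0)) (fixed_of_smul sev_latE0) ?_
    funext k
    have h' := inU_latE0_smul hγ
    rw [kap_smul_linear hγ (fixed_of_smul sev_latE0) hU.2]
    by_cases hk : k.val < 3
    · obtain ⟨i, rfl⟩ : ∃ i : Fin 3, k = up i := ⟨⟨k.val, hk⟩, rfl⟩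
      rw [Finset.sum_apply]
      have : ∀ l : Fin 3, kap (γ • bas (up l)) (up i) = (1 : Matrix (Fin 3) (Fin 3) (ZMod 2)) i l := fun l => by
        rw [← h]; rfl
      simp [this, Matrix.one_apply]
    · rw [← kap_smul_linear hγ (fixed_of_smul sev_latE0) hU.2]
      have : k = 3 ∨ k = 4 ∨ k = 5 := by omega
      rcases this with rfl | rfl | rfl
      · rw [h'.2.1, hU.2.1]
      · rw [h'.2.2.1, hU.2.2.1]
      · rw [h'.2.2.2, hU.2.2.2]
  obtain ⟨c, π, rfl⟩ := cong_latE_iff.mp hfix
  obtain ⟨hl, k, hk, hkc⟩ := mono_cent hγ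
  rw [rho_mono rfl hkc] at h
  obtain ⟨hk', t, ht⟩ := kernel_table _ hl k hk (fun i j => by rw [h, Matrix.one_apply]; split_ifs <;> rfl)
  have hπ : π = sev ^ t.val := by
    refine Subtype.ext (toList_injective ?_)
    rw [ht, SubmonoidClass.coe_pow, Seven.toList_pow, show (sev : Equiv.Perm GolayPt) = sevP from rfl, toList_sevP]
  have hpow : permW π = sevW ^ t.val := by rw [hπ]; exact map_pow permHom sev _
  refine ⟨t.val, ?_⟩
  rcases hk' with rfl | rfl
  · left
    have : c = 0 := by
      refine Subtype.ext ?_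
      rw [← dec_enc c.1, hkc, show codeWord 0 = 0 by decide +kernel, dec_zero]
      rfl
    rw [this, hpow, show sgnW (0 : golayCode) = 1 from map_one sgnHom, one_mul]
  · right
    have : c = ⟨1, one_mem_golay⟩ := by
      refine Subtype.ext ?_
      rw [← dec_enc c.1, hkc]
      show dec (codeWord 4095) = 1
      decide +kernel
    rw [this, hpow]

theorem rho_eU (i : Fin 7) : rho (eU i) = uMat i := by
  ext a b
  simp only [rho, uMat, Matrix.of_apply, kap_eU]
  rfl

theorem rhoHom_surjective : Function.Surjective rhoHom := by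
  intro M
  have h := det_table M.1 (by rw [← Matrix.det_fin_three]; exact M.2)
  rw [List.contains_iff_mem, ← prodL_eq, List.mem_flatMap] at h
  obtain ⟨i, -, h⟩ := h
  obtain ⟨ab, hab, he⟩ := List.mem_map.mp h
  obtain ⟨ha, hb⟩ := monIdx_lt ab hab
  obtain ⟨γ, hγ, hr⟩ := exists_mono (l := Seven.found1.getD ab.1 []) (k := fixK.getD ab.2 0)
    (by rw [List.getD_eq_getElem _ _ ha]; exact List.getElem_mem _)
    (by rw [List.getD_eq_getElem _ _ hb]; exact List.getElem_mem _)
  refine ⟨⟨eU i * γ, mul_mem (eU_mem i) hγ⟩, Subtype.ext ?_⟩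
  rw [rhoHom_coe]
  show rho (eU i * γ) = _
  rw [rho_mul (eU_mem i) hγ, rho_eU, hr]
  exact encM_injective he

end CfsgLib.MonsterType.Held
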