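import Cfsg.Agent.Lib.MonsterType.Held.Data

/-! Kernel check that rows form a frame. -/

set_option autoImplicit false
set_option maxRecDepth 20000

namespace CfsgLib.MonsterType.Held

open Cfsg CfsgLib.Golay

theorem baseU_rows : (decide (∀ i, leechTest (rowsFrame baseU i) = true) &&
    decide (∀ i j, dotInt (rowsFrame baseU i) (rowsFrame baseU j) = if i = j then 64 else 0) &&
    decide (∀ i k, (rowsFrame baseU i k - rowsFrame baseU none k) % 2 = 0) &&
    decide (∀ i, leechTest (fun k => (rowsFrame baseU i k - rowsFrame baseU none k) / 2) = true)) = true := by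
  decide +kernel

end CfsgLib.MonsterType.Held
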