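import Cfsg.Agent.Lib.MonsterType.Held.Lattice

/-! Tables for the squares of the elements over the fixed classes. -/

set_option autoImplicit false
set_option maxRecDepth 20000

namespace CfsgLib.MonsterType.Held

open Cfsg

/-- The class has an element whose square is `z`. -/
def Odd48 (c : Fin 6 → ZMod 2) : Prop := combNorm (wit c) = 48

instance (c : Fin 6 → ZMod 2) : Decidable (Odd48 c) := inferInstanceAs (Decidable (_ = _))

/-- The values of `Odd48`, listed. -/
def odd48L : List Bool := [false,false,false,false,false,false,false,false,false,false,false,false,true,true,true,true,false,false,true,true,false,false,true,true,false,false,true,true,true,true,false,false,false,true,false,true,false,true,false,true,false,true,false,true,true,false,true,false,false,true,true,false,false,true,true,false,false,true,true,false,true,false,false,true]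

theorem odd48_iff : ∀ c : Fin 6 → ZMod 2, Odd48 c ↔ odd48L.getD (code c) false = true := by decide +kernel

theorem nondeg_table : ∀ c : Fin 6 → ZMod 2, c ≠ 0 →
    ∃ d, (Odd48 (c + d) ↔ (Odd48 c ↔ Odd48 d)) := by
  simp only [odd48_iff]
  decide +kernel

theorem wit_norms : ∀ c : Fin 6 → ZMod 2, combNorm (wit c) = 48 ∨ combNorm (wit c) = 64 ∨
    combNorm (wit c) = 32 ∨ combNorm (wit c) = 0 := by decide +kernel

/-- The classes counted. -/
def goodSet : Finset ((Fin 6 → ZMod 2) × Bool) :=
  Finset.univ.filter fun p => (InU p.1 ∨ InW p.1) ∨ (p.1 = 0 ∧ p.2 = true)

theorem card_goodSet : goodSet.card = 29 := by decide +kernel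

end CfsgLib.MonsterType.Held
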