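import Cfsg.Agent.Lib.MonsterType.Held.Group
import Cfsg.Agent.Lib.MonsterType.Held.TabNorms
import Cfsg.Agent.Lib.MonsterType.LocalQuot

/-! The centralizer of an element of order 7 in normal position, modulo that element. -/

set_option autoImplicit false
set_option maxRecDepth 20000

namespace CfsgLib.MonsterType.Held

open Cfsg CfsgLib.LargeExtra CfsgLib.MonsterType.Local

variable {G : Type*} [Group G] [Finite G] {z : G} {Q : Subgroup (cz z)} [Q.Normal]
  {e : cz z ⧸ Q ≃* Spor.Co1} {ψ : leechLattice → Q ⧸ Subgroup.center Q}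
  {b : G} (hS : IsExtraspecialCentralizerSetting z Q 12) (hψ : IsLeechModTwoIso Q e ψ)
  (hb : orderOf b = 7) (hbz : b ∈ cz z) (he : e (QuotientGroup.mk ⟨b, hbz⟩) = QuotientGroup.mk sevW)

include hS hψ in
/-- Squares of elements over a fixed class. -/
theorem sq_eq_z_iff {q : Q} {v : leechLattice} (hv : Fixed v) (hq : ψ v = QuotientGroup.mk q) :
    gval q * gval q = z ↔ Odd48 (kap v) := by
  obtain ⟨hA, -, -⟩ := setting_extraAt hS
  obtain ⟨q32, q64, q48⟩ := qform_values orbitFacts hS hψ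
  set y := comb (wit (kap v)) with hy
  have hc : Cong v y := by
    refine fixed_ext hv (fixed_of_smul (sev_comb _)) ?_
    rw [kap_comb]
    funext k
    exact ((wit_facts (kap v)).1 k).symm
  have hqy : ψ y = QuotientGroup.mk q := by rw [← hq, (psi_cong hψ).mp hc]
  have hyn : sqNorm (y : GolayPt → ℤ) = combNorm (wit (kap v)) := sqNorm_comb _
  have hsq : qform ψ y = q * q :=
    qform_eq hS.2.2.1.2 ψ hψ.1 (fun w => (hψ.2.2.1 _).mpr ⟨w, rfl⟩) hqy.symm
  have hone : gval q * gval q = z ↔ q * q ≠ 1 := by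
    constructor
    · intro h h1
      exact hA.ne_one (h ▸ congrArg (fun t : Q => gval t) h1)
    · intro h
      exact (hA.sq_cases (gval_mem q)).resolve_left fun h1 => h (Subtype.ext (Subtype.ext h1))
  rw [hone, ← hsq, Odd48]
  rcases wit_norms (kap v) with h | h | h | h
  · exact iff_of_true (q48 y (hyn.trans h)) h
  · exact iff_of_false (not_not.mpr (q64 y (hyn.trans h))) (by omega)
  · exact iff_of_false (not_not.mpr (q32 y (hyn.trans h))) (by omega)
  · refine iff_of_false (not_not.mpr ?_) (by omega)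
    have hy0 : y = 0 := by
      by_contra hne
      have := min_norm y.2 (coe_ne_zero hne)
      omega
    rw [hsq]
    rw [hy0, psi_zero hψ, eq_comm, ← QuotientGroup.mk_one, mk_center_iff hS] at hqy
    refine Subtype.ext (Subtype.ext ?_)
    show gval q * gval q = 1
    rcases hqy with e1 | e1 <;> simp only [e1, gval, OneMemClass.coe_one, mul_one, hA.sq_one]

/-- A chosen element over a class. -/
noncomputable def liftQ (ψ : leechLattice → Q ⧸ Subgroup.center Q) (c : Fin 6 → ZMod 2) : Q :=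
  if c = 0 then 1 else Quotient.out (ψ (ofKap c))

include hS hψ in
omit [Finite G] in
theorem psi_liftQ (c : Fin 6 → ZMod 2) : ψ (ofKap c) = QuotientGroup.mk (liftQ ψ c) := by
  by_cases h : c = 0
  · subst h
    have : ofKap 0 = 0 := by simp [ofKap, comb]
    rw [liftQ, if_pos rfl, this, map_zero' ψ hψ.1]
    rfl
  · rw [liftQ, if_neg h]
    exact (QuotientGroup.out_eq' _).symm

/-- The element with given class and central part. -/
noncomputable def fixEl (z : G) {Q : Subgroup (cz z)} [Q.Normal] (ψ : leechLattice → Q ⧸ Subgroup.center Q)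
    (p : (Fin 6 → ZMod 2) × Bool) : G :=
  (if p.2 then z else 1) * gval (liftQ ψ p.1)

include hS hψ hb he in
theorem fixEl_mem (p : (Fin 6 → ZMod 2) × Bool) : fixEl z ψ p ∈ fixQ Q b := by
  obtain ⟨hA, -, -⟩ := setting_extraAt hS
  have h := (fixed_iff_commute hS hψ hb hbz he (psi_liftQ hS hψ p.1)).mp (fixed_ofKap _)
  have hz : z ∈ fixQ Q b := mem_fixQ.mpr ⟨hA.z_mem, (Subgroup.mem_centralizer_singleton_iff.mp hbz).symm⟩
  refine mul_mem ?_ (mem_fixQ.mpr ⟨gval_mem _, h.symm⟩)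
  split_ifs
  exacts [hz, one_mem _]

include hS hψ in
theorem exists_q_fixEl (p : (Fin 6 → ZMod 2) × Bool) :
    ∃ q : Q, gval q = fixEl z ψ p ∧ ψ (ofKap p.1) = QuotientGroup.mk q := by
  obtain ⟨hA, -, -⟩ := setting_extraAt hS
  by_cases h : p.2
  · obtain ⟨hzc, hzQ⟩ := mem_qm.mp hA.z_mem
    refine ⟨⟨⟨z, hzc⟩, hzQ⟩ * liftQ ψ p.1, by simp only [fixEl, h, if_true]; rfl, ?_⟩
    rw [psi_liftQ hS hψ, mk_center_iff hS]
    refine Or.inr ?_
    show gval (liftQ ψ p.1) = z * (z * gval (liftQ ψ p.1))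
    rw [← mul_assoc, hA.sq_one, one_mul]
  · exact ⟨liftQ ψ p.1, by simp [fixEl, h], psi_liftQ hS hψ _⟩

include hS hψ in
theorem fixEl_injective : Function.Injective (fixEl z ψ) := by
  obtain ⟨hA, -, -⟩ := setting_extraAt hS
  intro p p' h
  obtain ⟨q, hq, hqc⟩ := exists_q_fixEl hS hψ p
  obtain ⟨q', hq', hqc'⟩ := exists_q_fixEl hS hψ p'
  obtain rfl : q = q' := Subtype.ext (Subtype.ext (hq.trans (h.trans hq'.symm)))
  have hc : p.1 = p'.1 := by
    rw [← kap_ofKap p.1, ← kap_ofKap p'.1]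
    exact kap_cong ((psi_cong hψ).mpr (hqc.trans hqc'.symm))
  obtain ⟨c, ε⟩ := p
  obtain ⟨c', ε'⟩ := p'
  simp only at hc
  subst hc
  have h2 := mul_right_cancel h
  cases ε <;> cases ε' <;> simp_all [hA.ne_one, hA.ne_one.symm]

include hS hψ hb he in
theorem exists_fixEl {x : G} (hx : x ∈ fixQ Q b) : ∃ p, fixEl z ψ p = x := by
  obtain ⟨hxQ, hxb⟩ := mem_fixQ.mp hx
  obtain ⟨hxc, hxQ'⟩ := mem_qm.mp hxQ
  obtain ⟨v, hv⟩ := hψ.2.1 (QuotientGroup.mk (⟨⟨x, hxc⟩, hxQ'⟩ : Q))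
  have hf : Fixed v := (fixed_iff_commute hS hψ hb hbz he hv).mpr hxb.symm
  have hc : Cong v (ofKap (kap v)) := fixed_ext hf (fixed_ofKap _) (kap_ofKap _).symm
  rw [(psi_cong hψ).mp hc, psi_liftQ hS hψ, eq_comm, mk_center_iff hS] at hv
  rcases hv with e1 | e1
  · exact ⟨(kap v, false), by simp only [fixEl, Bool.false_eq_true, if_false, one_mul]; exact e1.symm⟩
  · exact ⟨(kap v, true), by simp only [fixEl, if_true]; exact e1.symm⟩

include hS hψ hb he in
theorem card_fixQ : Nat.card (fixQ Q b) = 2 ^ (2 * 3 + 1) := by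
  rw [← Nat.card_congr (Equiv.ofBijective
    (fun p => (⟨fixEl z ψ p, fixEl_mem hS hψ hb hbz he p⟩ : fixQ Q b)) ⟨?_, ?_⟩)]
  · simp [Nat.card_prod]
  · exact fun p p' h => fixEl_injective hS hψ (congrArg Subtype.val h)
  · rintro ⟨x, hx⟩
    obtain ⟨p, rfl⟩ := exists_fixEl hS hψ hb hbz he hx
    exact ⟨p, rfl⟩

include hS hψ hb he in
theorem fixQ_nondeg : ∀ x ∈ fixQ Q b, (∀ y ∈ fixQ Q b, y * x = x * y) → x = 1 ∨ x = z := by
  obtain ⟨hA, -, -⟩ := setting_extraAt hS
  intro x hx hcomm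
  obtain ⟨⟨c, ε⟩, rfl⟩ := exists_fixEl hS hψ hb hbz he hx
  by_cases hc : c = 0
  · subst hc
    have h1 : gval (liftQ ψ 0) = 1 := by simp [liftQ]
    cases ε <;> simp [fixEl, h1]
  exfalso
  obtain ⟨d, hd⟩ := nondeg_table c hc
  obtain ⟨q, hq, hqc⟩ := exists_q_fixEl hS hψ (c, ε)
  obtain ⟨q', hq', hqd⟩ := exists_q_fixEl hS hψ (d, false)
  have hcd := hcomm _ (fixEl_mem hS hψ hb hbz he (d, false))
  rw [← hq, ← hq'] at hcd
  have hs : ψ (ofKap c + ofKap d) = QuotientGroup.mk (q * q') := by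
    rw [hψ.1, hqc, hqd]; rfl
  have hfix : Fixed (ofKap c + ofKap d) := by
    refine fixed_of_smul ?_
    rw [smul_add']
    exact congrArg₂ (· + ·) (sev_comb _) (sev_comb _)
  have i1 := sq_eq_z_iff hS hψ (fixed_ofKap c) hqc
  have i2 := sq_eq_z_iff hS hψ (fixed_ofKap d) hqd
  have i3 := sq_eq_z_iff hS hψ hfix hs
  rw [kap_ofKap] at i1 i2
  rw [map_add, kap_ofKap, kap_ofKap, hd, ← i1, ← i2] at i3
  have hprod : gval (q * q') * gval (q * q') = gval q * gval q * (gval q' * gval q') := by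
    show gval q * gval q' * (gval q * gval q') = _
    calc gval q * gval q' * (gval q * gval q') = gval q * (gval q' * gval q) * gval q' := by group
      _ = gval q * (gval q * gval q') * gval q' := by rw [hcd]
      _ = _ := by group
  rw [hprod] at i3
  rcases hA.sq_cases (gval_mem q) with h1 | h1 <;> rcases hA.sq_cases (gval_mem q') with h2 | h2 <;>
    rw [h1, h2] at i3 <;> simp [hA.sq_one, hA.ne_one, hA.ne_one.symm] at i3

include hS hψ hb he in
theorem ncard_fixQ_conj : Set.ncard {r : G | r ∈ fixQ Q b ∧ IsConj z r} = 29 := by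
  obtain ⟨hA, -, -⟩ := setting_extraAt hS
  have hset : {r : G | r ∈ fixQ Q b ∧ IsConj z r} = fixEl z ψ '' (goodSet : Set _) := by
    ext r
    constructor
    · rintro ⟨hr, hc⟩
      obtain ⟨⟨c, ε⟩, rfl⟩ := exists_fixEl hS hψ hb hbz he hr
      refine ⟨_, ?_, rfl⟩
      obtain ⟨q, hq, hqc⟩ := exists_q_fixEl hS hψ (c, ε)
      rw [← hq] at hc
      simp only [goodSet, Finset.coe_filter, Finset.mem_univ, true_and, Set.mem_setOf_eq]
      by_cases hz : gval q = z
      · refine Or.inr ?_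
        have h2 : fixEl z ψ (c, ε) = fixEl z ψ (0, true) := by
          rw [← hq, hz]; simp [fixEl, liftQ]
        have := fixEl_injective hS hψ h2
        exact ⟨congrArg Prod.fst this, congrArg Prod.snd this⟩
      · obtain ⟨v, hv, hvq⟩ := exists_norm64 orbitFacts hS hψ hc hz
        have h64 := (fixed64_iff (fixed_ofKap c)).mp ⟨v, (psi_cong hψ).mpr (hvq.trans hqc.symm), hv⟩
        rw [kap_ofKap] at h64
        exact Or.inl h64
    · rintro ⟨⟨c, ε⟩, hp, rfl⟩
      simp only [goodSet, Finset.coe_filter, Finset.mem_univ, true_and, Set.mem_setOf_eq] at hp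
      refine ⟨fixEl_mem hS hψ hb hbz he _, ?_⟩
      rcases hp with hp | ⟨rfl, rfl⟩
      · obtain ⟨q, hq, hqc⟩ := exists_q_fixEl hS hψ (c, ε)
        obtain ⟨y, hy, hn⟩ := (fixed64_iff (fixed_ofKap c)).mpr (by rwa [kap_ofKap])
        rw [← hq]
        exact ((isConj_iff_norm64 orbitFacts hS hψ q).mpr ⟨y, hn, by rw [(psi_cong hψ).mp hy, hqc]⟩).1
      · simp only [fixEl, liftQ, if_true, gval, OneMemClass.coe_one, mul_one]
        exact IsConj.refl z
  rw [hset, Set.ncard_image_of_injective _ (fixEl_injective hS hψ), Set.ncard_coe_finset, card_goodSet]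

/-- The action of the common centraliser on the first family. -/
noncomputable def actHom (he : e (QuotientGroup.mk ⟨b, hbz⟩) = QuotientGroup.mk sevW) :
    czb z b →* Matrix.SpecialLinearGroup (Fin 3) (ZMod 2) :=
  MonoidHom.mk' (fun c => rhoHom (exists_rep_cent hbz he ⟨c, c.2.1⟩ (mem_czb.mp c.2).2).choose) fun c d => by
    rw [← map_mul]
    refine rhoHom_congr ?_
    refine (exists_rep_cent hbz he ⟨_, (c * d).2.1⟩ (mem_czb.mp (c * d).2).2).choose_spec.trans ?_
    show e (QuotientGroup.mk ((⟨c, c.2.1⟩ : cz z) * ⟨d, d.2.1⟩)) = _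
    exact (map_mul e (QuotientGroup.mk (⟨c, c.2.1⟩ : cz z)) (QuotientGroup.mk ⟨d, d.2.1⟩)).trans (congrArg₂ (· * ·)
      (exists_rep_cent hbz he ⟨c, c.2.1⟩ (mem_czb.mp c.2).2).choose_spec.symm
      (exists_rep_cent hbz he ⟨d, d.2.1⟩ (mem_czb.mp d.2).2).choose_spec.symm)

theorem actHom_eq (c : czb z b) {γ : centK}
    (h : (QuotientGroup.mk (γ : Co0) : Spor.Co1) = e (QuotientGroup.mk (⟨c, c.2.1⟩ : cz z))) :
    actHom hbz he c = rhoHom γ :=
  rhoHom_congr ((exists_rep_cent hbz he ⟨c, c.2.1⟩ (mem_czb.mp c.2).2).choose_spec.trans h.symm)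

include hS hψ hb in
/-- `C(B)/B` is of Held type. -/
theorem isOfHeldType_of_normal_position (he : e (QuotientGroup.mk ⟨b, hbz⟩) = QuotientGroup.mk sevW)
    {r : G} (hr : r ∈ fixQ Q b) (hrc : IsConj z r) (hrz : r ≠ z)
    [hn : ((Subgroup.zpowers b).subgroupOf (Subgroup.centralizer (Subgroup.zpowers b : Set G))).Normal] :
    IsOfHeldType (↥(Subgroup.centralizer (Subgroup.zpowers b : Set G)) ⧸
      (Subgroup.zpowers b).subgroupOf (Subgroup.centralizer (Subgroup.zpowers b : Set G))) := by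
  classical
  haveI : Fact (Nat.Prime 7) := ⟨by norm_num⟩
  haveI : Fact (Nat.Prime 2) := ⟨Nat.prime_two⟩
  obtain ⟨hA, -, -⟩ := setting_extraAt hS
  have hna : ∃ a ∈ fixQ Q b, ∃ c ∈ fixQ Q b, a * c ≠ c * a := by
    by_contra h
    push Not at h
    rcases fixQ_nondeg hS hψ hb hbz he r hr (fun y hy => h y hy r hr) with e1 | e1
    · rw [e1, isConj_one_left] at hrc
      exact hA.ne_one hrc
    · exact hrz e1
  have hφs : Function.Surjective (actHom hbz he) := fun M => by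
    obtain ⟨γ, rfl⟩ := rhoHom_surjective M
    obtain ⟨c, hcb, hce⟩ := exists_lift_cent hS hb hbz he γ.2
    exact ⟨⟨c, mem_czb.mpr ⟨Subgroup.mem_centralizer_singleton_iff.mp c.2, hcb⟩⟩, actHom_eq hbz he _ hce.symm⟩
  have hφQ : ∀ c : czb z b, (c : G) ∈ fixQ Q b → actHom hbz he c = 1 := fun c hc => by
    rw [actHom_eq hbz he c (γ := 1) ?_, map_one]
    rw [(QuotientGroup.eq_one_iff _).mpr (coe_mem_qm.mp (show ((⟨c, c.2.1⟩ : cz z) : G) ∈ qm Q from hc.1)), map_one]
    rfl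
  have hφb : ∀ c : czb z b, (c : G) ∈ Subgroup.zpowers b → actHom hbz he c = 1 := fun c hc => by
    obtain ⟨n, hn'⟩ := (mem_powers_iff_mem_zpowers (x := b)).mpr hc
    rw [actHom_eq hbz he c (γ := ⟨sevW, mem_centK.mpr rfl⟩ ^ n) ?_, map_pow,
      show rhoHom ⟨sevW, mem_centK.mpr rfl⟩ = 1 from Subtype.ext rho_sevW, one_pow]
    rw [show (⟨c, c.2.1⟩ : cz z) = ⟨b, hbz⟩ ^ n from Subtype.ext hn'.symm, QuotientGroup.mk_pow, map_pow, he]
    rfl
  have hφk : ∀ c : czb z b, actHom hbz he c = 1 →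
      ∃ q ∈ fixQ Q b, q⁻¹ * (c : G) ∈ Subgroup.zpowers b := by
    intro c hc
    obtain ⟨γ, hγ⟩ := exists_rep_cent hbz he ⟨c, c.2.1⟩ (mem_czb.mp c.2).2
    rw [actHom_eq hbz he c hγ] at hc
    obtain ⟨t, ht⟩ := rho_eq_one γ.2 (congrArg Subtype.val hc)
    have hmk : e (QuotientGroup.mk (⟨c, c.2.1⟩ : cz z)) = e (QuotientGroup.mk (⟨b, hbz⟩ : cz z)) ^ t := by
      rw [← hγ, he]
      rcases ht with e1 | e1 <;> rw [e1]
      · rfl
      · rw [QuotientGroup.mk_mul, (QuotientGroup.eq_one_iff _).mpr neg_mem_center, one_mul]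
        rfl
    rw [← map_pow, ← QuotientGroup.mk_pow, e.injective.eq_iff, eq_comm, QuotientGroup.eq] at hmk
    refine ⟨(c : G) * (b ^ t)⁻¹, mem_fixQ.mpr ⟨?_, ?_⟩, ?_⟩
    · have := (inferInstance : Q.Normal).conj_mem _ hmk (⟨b, hbz⟩ ^ t)
      have h2 := coe_mem_qm.mpr this
      simpa [mul_assoc] using h2
    · exact ((show Commute (c : G) b from (mem_czb.mp c.2).2).mul_left
        ((Commute.refl b).pow_left t).inv_left).eq
    · have : ((c : G) * (b ^ t)⁻¹)⁻¹ * (c : G) = b ^ t := by group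
      rw [this]
      exact pow_mem (Subgroup.mem_zpowers b) t
  have hfaith : ∀ c : czb z b, (∀ q ∈ fixQ Q b, (c : G) * q = q * (c : G)) → actHom hbz he c = 1 := by
    intro c hc
    obtain ⟨γ, hγ⟩ := exists_rep_cent hbz he ⟨c, c.2.1⟩ (mem_czb.mp c.2).2
    rw [actHom_eq hbz he c hγ]
    refine Subtype.ext (rho_eq_one_of_fix fun v hv => ?_)
    obtain ⟨q, hq⟩ := QuotientGroup.mk_surjective (ψ v)
    have hqb := (fixed_iff_commute hS hψ hb hbz he hq.symm).mp hv
    rw [psi_cong hψ, psi_smul hψ hγ.symm hq.symm, ← hq, mk_center_iff hS]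
    refine Or.inl ?_
    show (c : G) * gval q * (c : G)⁻¹ = gval q
    rw [hc _ (mem_fixQ.mpr ⟨gval_mem q, hqb.symm⟩), mul_inv_cancel_right]
  have hL : pCore 2 (Matrix.SpecialLinearGroup (Fin 3) (ZMod 2)) = ⊥ :=
    Transvection.eq_bot_of_normal_two_subgroup inferInstance CfsgLib.PCore.pCore_isPGroup
  obtain ⟨zb, R, hRn, hset, hiso, hcount⟩ := local_setting (w := 12) (by norm_num) hS (l := 7) (by norm_num) hb
    (Subgroup.mem_centralizer_singleton_iff.mp hbz) (fixQ_nondeg hS hψ hb hbz he) hna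
    (card_fixQ hS hψ hb hbz he) ⟨r, hr, hrc, hrz⟩ (actHom hbz he) hφs hφQ hφb hφk hfaith hL (hn := hn)
  exact ⟨zb, R, hRn, hset, hiso, by rw [hcount, ncard_fixQ_conj hS hψ hb hbz he]⟩

end CfsgLib.MonsterType.Held
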