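import Cfsg.Agent.Lib.MonsterType.Held.Tables

/-! A kernel-checked table for the centraliser of the permutation of order 7. -/

set_option autoImplicit false
set_option maxRecDepth 20000

namespace CfsgLib.MonsterType.Held

open Cfsg CfsgLib.Golay

theorem rowsU_comm : ∀ i : Fin 7, ∀ p k : GolayPt,
    rowsFrame (rowsUi i) p (sevP k) = rowsFrame (rowsUi i) (sevP.symm p) k := by decide +kernel

theorem rowsW_comm : ∀ i : Fin 7, ∀ p k : GolayPt,
    rowsFrame (rowsWi i) p (sevP.symm k) = rowsFrame (rowsWi i) (sevP.symm p) k := by decide +kernel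

end CfsgLib.MonsterType.Held
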